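import Cfsg.Agent.Lib.Involution.Dihedral
import Mathlib.GroupTheory.Nilpotent
import Mathlib.Algebra.Group.Subgroup.Finite
import Mathlib.Data.Set.Finite.Lemmas

/-!
The Baer–Suzuki theorem (Alperin–Lyons proof).
-/

set_option autoImplicit false

namespace Cfsg.Agent.Involution

variable {G : Type*} [Group G] [Finite G] {p : ℕ} [Fact p.Prime]

/-- Baer–Suzuki for a conjugation invariant set. -/
theorem baer_suzuki_set (C : Set G) (hC : ∀ g : G, ∀ c ∈ C, g * c * g⁻¹ ∈ C)
    (h : ∀ a ∈ C, ∀ b ∈ C, IsPGroup p (Subgroup.closure ({a, b} : Set G))) :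
    IsPGroup p (Subgroup.closure C) := by
  classical
  let S : Sylow p G → Set G := fun P => C ∩ ((P : Subgroup G) : Set G)
  have hcover : ∀ c ∈ C, ∃ P : Sylow p G, c ∈ S P := by
    intro c hc
    obtain ⟨P, hP⟩ := (h c hc c hc).exists_le_sylow
    exact ⟨P, hc, hP (Subgroup.subset_closure (Set.mem_insert _ _))⟩
  have hcard : ∀ P Q : Sylow p G, (S P).ncard = (S Q).ncard := by
    intro P Q
    obtain ⟨g, rfl⟩ := MulAction.exists_smul_eq G P Q
    have : S (g • P) = MulAut.conj g '' S P := by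
      ext c
      constructor
      · rintro ⟨hc, hcP⟩
        have hcP' : c ∈ ((g • P : Sylow p G) : Subgroup G) := hcP
        rw [Sylow.coe_subgroup_smul, Subgroup.mem_pointwise_smul_iff_inv_smul_mem] at hcP'
        refine ⟨(MulAut.conj g)⁻¹ c, ⟨?_, hcP'⟩, by simp only [MulAut.conj_inv_apply, MulAut.conj_apply]; group⟩
        have := hC g⁻¹ c hc
        simpa [MulAut.conj_inv_apply] using this
      · rintro ⟨d, ⟨hd, hdP⟩, rfl⟩
        refine ⟨hC g d hd, ?_⟩
        show MulAut.conj g d ∈ ((g • P : Sylow p G) : Subgroup G)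
        rw [Sylow.coe_subgroup_smul, Subgroup.mem_pointwise_smul_iff_inv_smul_mem]
        rw [MulAut.smul_def, MulAut.inv_apply_self]
        exact hdP
    rw [this, Set.ncard_image_of_injective _ (MulAut.conj g).injective]
  by_cases hsame : ∀ P Q : Sylow p G, S P = S Q
  · obtain ⟨P₀⟩ := (inferInstance : Nonempty (Sylow p G))
    apply P₀.2.to_le
    rw [Subgroup.closure_le]
    intro c hc
    obtain ⟨P, hP⟩ := hcover c hc
    exact ((hsame P P₀) ▸ hP : c ∈ S P₀).2
  push Not at hsame
  exfalso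
  obtain ⟨P₁, Q₁, h₁⟩ := hsame
  obtain ⟨⟨P, Q⟩, hPQ, hmax⟩ := Set.exists_max_image
    {PQ : Sylow p G × Sylow p G | S PQ.1 ≠ S PQ.2} (fun PQ => (S PQ.1 ∩ S PQ.2).ncard)
    (Set.toFinite _) ⟨(P₁, Q₁), h₁⟩
  set D := S P ∩ S Q with hD
  -- an element of `S P'` outside `D` normalising `D`
  have key : ∀ P' : Sylow p G, D ⊆ S P' → D ≠ S P' →
      ∃ x ∈ S P', x ∉ D ∧ x ∈ Subgroup.normalizer D := by
    intro P' hsub hne
    by_contra hcon
    push Not at hcon
    let N : Subgroup ↥(P' : Subgroup G) := (Subgroup.normalizer D).subgroupOf (P' : Subgroup G)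
    have hDP : ∀ d ∈ D, d ∈ (P' : Subgroup G) := fun d hd => (hsub hd).2
    have hN : N = ⊤ := by
      have : Group.IsNilpotent ↥(P' : Subgroup G) := P'.2.isNilpotent
      refine normalizerCondition_iff_only_full_group_self_normalizing.mp
        Group.normalizerCondition_of_isNilpotent N ?_
      refine le_antisymm ?_ Subgroup.le_normalizer
      intro a ha
      -- `N ∩ C` consists exactly of `D ∩ N`
      rw [Subgroup.mem_subgroupOf]
      refine Subgroup.mem_normalizer_fintype fun d hd => ?_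
      have hdnorm : d ∈ Subgroup.normalizer D ∨ d ∉ Subgroup.normalizer D := em _
      by_cases hdN : d ∈ Subgroup.normalizer D
      · have h1 : a * ⟨d, hDP d hd⟩ * a⁻¹ ∈ N :=
          (Subgroup.mem_normalizer_iff.mp ha ⟨d, hDP d hd⟩).mp hdN
        by_contra hnd
        refine hcon ((a : G) * d * (a : G)⁻¹) ⟨hC _ d (hd.1.1), ?_⟩ hnd h1
        exact mul_mem (mul_mem a.2 (hDP d hd)) (inv_mem a.2)
      · exfalso
        apply hdN
        refine Subgroup.mem_normalizer_fintype fun e he => ?_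
        -- `d` conjugates `e` into `P'`, `Q`, `P`
        exact ⟨⟨hC _ e he.1.1, mul_mem (mul_mem hd.1.2 he.1.2) (inv_mem hd.1.2)⟩,
          ⟨hC _ e he.1.1, mul_mem (mul_mem hd.2.2 he.2.2) (inv_mem hd.2.2)⟩⟩
    obtain ⟨x, hx, hxD⟩ : ∃ x ∈ S P', x ∉ D := by
      by_contra hall
      push Not at hall
      exact hne (Set.Subset.antisymm hsub hall)
    have : (⟨x, hx.2⟩ : ↥(P' : Subgroup G)) ∈ N := hN ▸ Subgroup.mem_top _
    exact hcon x hx hxD this
  have hne1 : D ≠ S P := by
    intro he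
    refine hPQ (Set.eq_of_subset_of_ncard_le (fun c hc => ?_) (hcard P Q).ge)
    exact (he.symm ▸ hc : c ∈ D).2
  have hne2 : D ≠ S Q := by
    intro he
    refine hPQ (Set.eq_of_subset_of_ncard_le (fun c hc => ?_) (hcard P Q).le).symm
    exact (he.symm ▸ hc : c ∈ D).1
  obtain ⟨x, hx, hxD, hxn⟩ := key P Set.inter_subset_left hne1
  obtain ⟨y, hy, hyD, hyn⟩ := key Q Set.inter_subset_right hne2
  have hle : Subgroup.closure ({x, y} : Set G) ≤
      Subgroup.normalizer (Subgroup.closure D : Set G) := by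
    rw [Subgroup.closure_le]
    intro a ha
    have han : a ∈ Subgroup.normalizer D := by rcases ha with rfl | rfl <;> assumption
    exact Subgroup.normalizer_le_normalizer_closure D han
  have hDp : IsPGroup p (Subgroup.closure D) :=
    P.2.to_le ((Subgroup.closure_le _).mpr fun d hd => hd.1.2)
  have hT := (h x hx.1 y hy.1).to_sup_of_normal_right' hDp hle
  obtain ⟨R, hR⟩ := hT.exists_le_sylow
  have hxR : x ∈ S R := ⟨hx.1, hR (Subgroup.mem_sup_left (left_mem_closure_pair x y))⟩
  have hyR : y ∈ S R := ⟨hy.1, hR (Subgroup.mem_sup_left (right_mem_closure_pair x y))⟩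
  have hDR : D ⊆ S R := fun d hd =>
    ⟨hd.1.1, hR (Subgroup.mem_sup_right (Subgroup.subset_closure hd))⟩
  have hSP : S P = S R := by
    by_contra hne
    have hlt : D.ncard < (S P ∩ S R).ncard := by
      refine Set.ncard_lt_ncard ⟨fun d hd => ⟨hd.1, hDR hd⟩, ?_⟩
      exact fun hsub => hxD (hsub ⟨hx, hxR⟩)
    exact absurd (hmax (P, R) hne) (not_le.mpr hlt)
  exact hyD ⟨hSP ▸ hyR, hy⟩

/-- Baer–Suzuki, element form: if `x` and any conjugate generate a `p`-group then the normal
closure of `x` is a `p`-group. -/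
theorem baer_suzuki (x : G)
    (h : ∀ g : G, IsPGroup p (Subgroup.closure ({x, g * x * g⁻¹} : Set G))) :
    IsPGroup p (Subgroup.normalClosure ({x} : Set G)) := by
  refine baer_suzuki_set _ (fun g c hc => ?_) ?_
  · exact Group.conj_mem_conjugatesOfSet hc
  · intro a ha b hb
    simp only [Group.mem_conjugatesOfSet_iff, Set.mem_singleton_iff, exists_eq_left,
      isConj_iff] at ha hb
    obtain ⟨u, rfl⟩ := ha
    obtain ⟨v, rfl⟩ := hb
    have hmap : Subgroup.closure ({u * x * u⁻¹, v * x * v⁻¹} : Set G) =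
        (Subgroup.closure ({x, (u⁻¹ * v) * x * (u⁻¹ * v)⁻¹} : Set G)).map
          (MulAut.conj u).toMonoidHom := by
      rw [MonoidHom.map_closure, Set.image_pair]
      simp only [MulEquiv.coe_toMonoidHom, MulAut.conj_apply]
      congr 3
      group
    rw [hmap]
    exact (h (u⁻¹ * v)).map _

end Cfsg.Agent.Involution
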