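import Cfsg.Agent.Lib.Involution.Isolated
import Cfsg.Prelude.Def_Involutions
import Mathlib.GroupTheory.PGroup
import Mathlib.GroupTheory.GroupAction.Quotient

/-!
# Strongly embedded subgroups: fixed points of involutions

All involutions are conjugate, an involution inside and one outside have product of odd order, and
for two distinct cosets the involutions exchanging them correspond bijectively to the involutions
of the subgroup.
-/

namespace Cfsg.Agent.Involution.StrongEmb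

open Cfsg.Agent.Involution.Isolated (middle middle_conj middle_mul_self inv_mul_self_eq)

variable {G : Type*} [Group G] {H : Subgroup G}

theorem mul_self_of_orderOf {x : G} (hx : orderOf x = 2) : x * x = 1 := by
  have := pow_orderOf_eq_one x
  rwa [hx, pow_two] at this

theorem inv_eq_of_orderOf {x : G} (hx : orderOf x = 2) : x⁻¹ = x :=
  inv_mul_self_eq (mul_self_of_orderOf hx)

theorem orderOf_conj' (g x : G) : orderOf (g * x * g⁻¹) = orderOf x := by
  rw [← MulAut.conj_apply, MulEquiv.orderOf_eq]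

variable (hH : Cfsg.IsStronglyEmbedded H)
include hH

theorem mem_of_conj_mem {x g : G} (hx : x ∈ H) (hx2 : orderOf x = 2)
    (hg : g * x * g⁻¹ ∈ H) : g ∈ H := by
  by_contra h
  have hmem : g * x * g⁻¹ ∈ H ⊓ H.map (MulAut.conj g).toMonoidHom := ⟨hg, x, hx, rfl⟩
  have h2 : 2 ∣ Nat.card ↥(H ⊓ H.map (MulAut.conj g).toMonoidHom) := by
    have := orderOf_dvd_natCard (⟨_, hmem⟩ : ↥(H ⊓ H.map (MulAut.conj g).toMonoidHom))
    rwa [Subgroup.orderOf_mk, orderOf_conj', hx2] at this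
  exact Nat.not_even_iff_odd.mpr (hH.2.2 g h) (even_iff_two_dvd.mpr h2)

theorem mem_of_commute {x g : G} (hx : x ∈ H) (hx2 : orderOf x = 2) (hg : Commute g x) : g ∈ H :=
  mem_of_conj_mem hH hx hx2 (by rwa [hg.eq, mul_inv_cancel_right])

theorem mem_of_conj_eq {x g y : G} (hx : x ∈ H) (hx2 : orderOf x = 2)
    (h : g * x * g⁻¹ = y) (hy : y ∈ H) : g ∈ H :=
  mem_of_conj_mem hH hx hx2 (h ▸ hy)

variable [Finite G]

theorem exists_involution : ∃ x ∈ H, orderOf x = 2 := by
  haveI := Fintype.ofFinite H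
  obtain ⟨x, hx⟩ := exists_prime_orderOf_dvd_card' (G := H) 2 (even_iff_two_dvd.mp hH.2.1)
  exact ⟨x, x.2, (Subgroup.orderOf_coe x).trans hx⟩

theorem exists_involution_not_mem : ∃ x ∉ H, orderOf x = 2 := by
  obtain ⟨x, hx, hx2⟩ := exists_involution hH
  obtain ⟨g, -, hg⟩ := SetLike.exists_of_lt (lt_top_iff_ne_top.mpr hH.1)
  exact ⟨g * x * g⁻¹, fun h => hg (mem_of_conj_mem hH hx hx2 h), by rw [orderOf_conj', hx2]⟩

theorem odd_orderOf_mul {x w : G} (hx : x ∈ H) (hx2 : orderOf x = 2) (hw : w ∉ H)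
    (hw2 : orderOf w = 2) : Odd (orderOf (x * w)) := by
  rw [← Nat.not_even_iff_odd]
  rintro ⟨m, hm⟩
  have hu := mul_self_of_orderOf hx2
  have hv := mul_self_of_orderOf hw2
  have hpos := orderOf_pos (x * w)
  have hwi : ((x * w) ^ m)⁻¹ = (x * w) ^ m := inv_eq_of_mul_eq_one_right (by
    rw [← pow_add, ← hm, pow_orderOf_eq_one])
  have hc : Commute x ((x * w) ^ m) := by
    have h1 := Isolated.conj_pow_eq hu hv m
    rw [hwi] at h1
    show x * (x * w) ^ m = (x * w) ^ m * x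
    conv_rhs => rw [← h1]
    rw [mul_assoc _ x x, hu, mul_one]
  have hz2 : orderOf ((x * w) ^ m) = 2 := by
    rw [orderOf_eq_prime_iff, pow_two, ← pow_add, ← hm, pow_orderOf_eq_one]
    exact ⟨rfl, pow_ne_one_of_lt_orderOf (by omega) (by omega)⟩
  have hzH : (x * w) ^ m ∈ H := mem_of_commute hH hx hx2 hc.symm
  refine hw (mem_of_commute hH hzH hz2 ?_)
  have h3 : w = x * (x * w) := by rw [← mul_assoc, hu, one_mul]
  have h4 : Commute (x * (x * w)) ((x * w) ^ m) := hc.mul_left ((Commute.refl _).pow_right m)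
  rwa [← h3] at h4

theorem isConj_of_mem_of_not_mem {x w : G} (hx : x ∈ H) (hx2 : orderOf x = 2) (hw : w ∉ H)
    (hw2 : orderOf w = 2) : IsConj x w := by
  refine isConj_iff.mpr ⟨middle x w, ?_⟩
  rw [inv_mul_self_eq (middle_mul_self (mul_self_of_orderOf hx2) (mul_self_of_orderOf hw2))]
  exact middle_conj (mul_self_of_orderOf hx2) (mul_self_of_orderOf hw2)
    (odd_orderOf_mul hH hx hx2 hw hw2)

/-- All involutions are conjugate. -/
theorem isConj_involutions {a b : G} (ha : orderOf a = 2) (hb : orderOf b = 2) : IsConj a b := by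
  obtain ⟨x, hx, hx2⟩ := exists_involution hH
  obtain ⟨w, hw, hw2⟩ := exists_involution_not_mem hH
  have h : ∀ c : G, orderOf c = 2 → IsConj x c := fun c hc => by
    by_cases hcH : c ∈ H
    · exact (isConj_of_mem_of_not_mem hH hx hx2 hw hw2).trans
        (isConj_of_mem_of_not_mem hH hcH hc hw hw2).symm
    · exact isConj_of_mem_of_not_mem hH hx hx2 hcH hc
  exact (h a ha).symm.trans (h b hb)

/-- For an involution `w` fixing the coset `gH ≠ H`, and an involution `e` of `H`: the middle of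
`e` and `w` exchanges `H` and `gH`. -/
theorem middle_smul {e w g : G} (he : e ∈ H) (he2 : orderOf e = 2) (hw : w ∉ H)
    (hw2 : orderOf w = 2) (hwg : g⁻¹ * w * g ∈ H) :
    orderOf (middle e w) = 2 ∧ g⁻¹ * middle e w ∈ H ∧ middle e w * g ∈ H := by
  set m := middle e w with hm
  have hm2 : m * m = 1 := middle_mul_self (mul_self_of_orderOf he2) (mul_self_of_orderOf hw2)
  have hme : m * e * m = w := middle_conj (mul_self_of_orderOf he2) (mul_self_of_orderOf hw2)
    (odd_orderOf_mul hH he he2 hw hw2)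
  have hgm : g⁻¹ * m ∈ H := by
    refine mem_of_conj_eq hH he he2 ?_ hwg
    calc g⁻¹ * m * e * (g⁻¹ * m)⁻¹ = g⁻¹ * (m * e * m⁻¹) * g := by group
      _ = g⁻¹ * w * g := by rw [inv_mul_self_eq hm2, hme]
  refine ⟨?_, hgm, ?_⟩
  · rw [orderOf_eq_prime_iff, pow_two]
    refine ⟨hm2, fun h => hw ?_⟩
    rw [← hme, h, one_mul, mul_one]
    exact he
  · have := H.inv_mem hgm
    rwa [mul_inv_rev, inv_inv, inv_mul_self_eq hm2] at this

omit [Finite G] hH in
theorem smul_one_eq_iff {i g : G} :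
    i • ((1 : G) : G ⧸ H) = (g : G ⧸ H) ↔ g⁻¹ * i ∈ H := by
  rw [MulAction.Quotient.smul_coe, smul_eq_mul, mul_one, eq_comm, QuotientGroup.eq]

theorem card_swap_base_ge (g : G) (hg : g ∉ H) :
    Nat.card {t : G // orderOf t = 2 ∧ t ∈ H} ≤
      Nat.card {i : G // orderOf i = 2 ∧ i • ((1 : G) : G ⧸ H) = (g : G ⧸ H)} := by
  obtain ⟨x, hx, hx2⟩ := exists_involution hH
  set w := g * x * g⁻¹ with hw
  have hw2 : orderOf w = 2 := by rw [hw, orderOf_conj', hx2]
  have hwH : w ∉ H := fun h => hg (mem_of_conj_mem hH hx hx2 h)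
  have hwg : g⁻¹ * w * g ∈ H := by
    rw [hw]; simpa [mul_assoc] using hx
  refine Nat.card_le_card_of_injective (fun e => ⟨middle e.1 w,
    (middle_smul hH e.2.2 e.2.1 hwH hw2 hwg).1,
    smul_one_eq_iff.mpr (middle_smul hH e.2.2 e.2.1 hwH hw2 hwg).2.1⟩) ?_
  intro e e' h
  have h' : middle e.1 w = middle e'.1 w := congrArg Subtype.val h
  have key : ∀ e : {t : G // orderOf t = 2 ∧ t ∈ H}, e.1 = middle e.1 w * w * middle e.1 w := by
    intro e
    have h2 := middle_mul_self (mul_self_of_orderOf e.2.1) (mul_self_of_orderOf hw2)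
    have h3 := middle_conj (mul_self_of_orderOf e.2.1) (mul_self_of_orderOf hw2)
      (odd_orderOf_mul hH e.2.2 e.2.1 hwH hw2)
    generalize middle e.1 w = m at h2 h3 ⊢
    rw [← h3]
    simp [mul_assoc, h2, ← mul_assoc m m]
  exact Subtype.ext (by rw [key e, key e', h'])

/-- For `g ∉ H` there are as many involutions exchanging `H` and `gH` as involutions in `H`. -/
theorem card_swap_base (g : G) (hg : g ∉ H) :
    Nat.card {i : G // orderOf i = 2 ∧ i • ((1 : G) : G ⧸ H) = (g : G ⧸ H)} =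
      Nat.card {t : G // orderOf t = 2 ∧ t ∈ H} := by
  classical
  haveI : Fintype (G ⧸ H) := Fintype.ofFinite _
  set I := Nat.card {t : G // orderOf t = 2 ∧ t ∈ H}
  -- every involution lies in exactly one conjugate of `H`
  have h1 : Nat.card {i : G // orderOf i = 2} = Nat.card (G ⧸ H) * I := by
    rw [← Nat.card_prod]
    refine (Nat.card_eq_of_bijective (fun p : (G ⧸ H) × {t : G // orderOf t = 2 ∧ t ∈ H} =>
      (⟨p.1.out * p.2.1 * p.1.out⁻¹, by rw [orderOf_conj', p.2.2.1]⟩ : {i : G // orderOf i = 2}))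
      ⟨?_, ?_⟩).symm
    · rintro ⟨q, t⟩ ⟨q', t'⟩ h
      have h' : q.out * t.1 * q.out⁻¹ = q'.out * t'.1 * q'.out⁻¹ := congrArg Subtype.val h
      have hmem : q'.out⁻¹ * q.out ∈ H := by
        refine mem_of_conj_eq hH t.2.2 t.2.1 ?_ t'.2.2
        calc q'.out⁻¹ * q.out * t.1 * (q'.out⁻¹ * q.out)⁻¹
            = q'.out⁻¹ * (q.out * t.1 * q.out⁻¹) * q'.out := by group
          _ = t'.1 := by rw [h']; group
      have hq : q = q' := by
        rw [← QuotientGroup.out_eq' q, ← QuotientGroup.out_eq' q', QuotientGroup.eq]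
        have := H.inv_mem hmem
        rwa [mul_inv_rev, inv_inv] at this
      subst hq
      exact Prod.ext rfl (Subtype.ext (mul_left_cancel (mul_right_cancel h')))
    · rintro ⟨i, hi⟩
      obtain ⟨x, hx, hx2⟩ := exists_involution hH
      obtain ⟨c, hc⟩ := isConj_iff.mp (isConj_involutions hH hx2 hi)
      set q : G ⧸ H := (c : G ⧸ H)
      have hh : q.out⁻¹ * c ∈ H := QuotientGroup.eq.mp (QuotientGroup.out_eq' q)
      refine ⟨(q, ⟨q.out⁻¹ * c * x * (q.out⁻¹ * c)⁻¹, ?_, ?_⟩), Subtype.ext ?_⟩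
      · rw [orderOf_conj', hx2]
      · exact H.mul_mem (H.mul_mem hh hx) (H.inv_mem hh)
      · show q.out * (q.out⁻¹ * c * x * (q.out⁻¹ * c)⁻¹) * q.out⁻¹ = i
        rw [← hc]; group
  have h2 : Nat.card {i : G // orderOf i = 2} =
      ∑ q : G ⧸ H, Nat.card {i : G // orderOf i = 2 ∧ i • ((1 : G) : G ⧸ H) = q} := by
    rw [← Nat.card_sigma]
    exact Nat.card_congr
      ((Equiv.sigmaFiberEquiv fun i : {i : G // orderOf i = 2} =>
          (i : G) • ((1 : G) : G ⧸ H)).symm.trans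
        (Equiv.sigmaCongrRight fun q =>
          Equiv.subtypeSubtypeEquivSubtypeInter _ fun i : G => i • ((1 : G) : G ⧸ H) = q))
  have hle : ∀ q ∈ (Finset.univ : Finset (G ⧸ H)),
      I ≤ Nat.card {i : G // orderOf i = 2 ∧ i • ((1 : G) : G ⧸ H) = q} := by
    intro q _
    induction q using QuotientGroup.induction_on with
    | _ c =>
      by_cases hc : c ∈ H
      · refine le_of_eq (Nat.card_congr (Equiv.subtypeEquivRight fun i => and_congr_right fun _ => ?_))
        rw [smul_one_eq_iff]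
        exact (H.mul_mem_cancel_left (H.inv_mem hc)).symm
      · exact card_swap_base_ge hH c hc
  have h3 : ∑ _q : G ⧸ H, I =
      ∑ q : G ⧸ H, Nat.card {i : G // orderOf i = 2 ∧ i • ((1 : G) : G ⧸ H) = q} := by
    rw [← h2, h1, Finset.sum_const, Finset.card_univ, smul_eq_mul, Nat.card_eq_fintype_card]
  exact ((Finset.sum_eq_sum_iff_of_le hle).mp h3 _ (Finset.mem_univ _)).symm

theorem card_swap (x y : G ⧸ H) (hxy : x ≠ y) :
    Nat.card {i : G // orderOf i = 2 ∧ i • x = y} =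
      Nat.card {t : G // orderOf t = 2 ∧ t ∈ H} := by
  induction x using QuotientGroup.induction_on with
  | _ a =>
    induction y using QuotientGroup.induction_on with
    | _ b =>
      have hab : a⁻¹ * b ∉ H := fun h => hxy (QuotientGroup.eq.mpr h)
      rw [← card_swap_base hH (a⁻¹ * b) hab]
      refine Nat.card_congr (Equiv.subtypeEquiv (MulAut.conj a⁻¹).toEquiv fun i => ?_)
      show _ ↔ orderOf (a⁻¹ * i * a⁻¹⁻¹) = 2 ∧ _
      rw [orderOf_conj']
      refine and_congr_right fun _ => ?_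
      rw [smul_one_eq_iff, MulAction.Quotient.smul_coe, smul_eq_mul, eq_comm, QuotientGroup.eq]
      show b⁻¹ * (i * a) ∈ H ↔ (a⁻¹ * b)⁻¹ * (a⁻¹ * i * a⁻¹⁻¹) ∈ H
      have : (a⁻¹ * b)⁻¹ * (a⁻¹ * i * a⁻¹⁻¹) = b⁻¹ * (i * a) := by group
      rw [this]

/-- The stabilizer of two cosets is transitive on the involutions fixing the first. -/
theorem exists_mem_inter_conj {u : G} (hu : u ∉ H) {s t : G} (hs : orderOf s = 2) (hsH : s ∈ H)
    (ht : orderOf t = 2) (htH : t ∈ H) :
    ∃ d ∈ H ⊓ H.map (MulAut.conj u).toMonoidHom, d * s * d⁻¹ = t := by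
  set w := u * s * u⁻¹ with hw
  have hw2 : orderOf w = 2 := by rw [hw, orderOf_conj', hs]
  have hwH : w ∉ H := fun h => hu (mem_of_conj_mem hH hsH hs h)
  have hwu : u⁻¹ * w * u ∈ H := by rw [hw]; simpa [mul_assoc] using hsH
  obtain ⟨ho, hu1, h1u⟩ := middle_smul hH hsH hs hwH hw2 hwu
  obtain ⟨ho', hu2, h2u⟩ := middle_smul hH htH ht hwH hw2 hwu
  have e1 := middle_conj (mul_self_of_orderOf hs) (mul_self_of_orderOf hw2)
    (odd_orderOf_mul hH hsH hs hwH hw2)
  have e2 := middle_conj (mul_self_of_orderOf ht) (mul_self_of_orderOf hw2)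
    (odd_orderOf_mul hH htH ht hwH hw2)
  set m₁ := middle s w
  set m₂ := middle t w
  refine ⟨m₂ * m₁, ⟨?_, u⁻¹ * (m₂ * m₁) * u, ?_, ?_⟩, ?_⟩
  · have : m₂ * m₁ = (m₂ * u) * (u⁻¹ * m₁) := by group
    rw [this]; exact H.mul_mem h2u hu1
  · have : u⁻¹ * (m₂ * m₁) * u = (u⁻¹ * m₂) * (m₁ * u) := by group
    rw [this]; exact H.mul_mem hu2 h1u
  · show u * (u⁻¹ * (m₂ * m₁) * u) * u⁻¹ = m₂ * m₁
    group
  · calc m₂ * m₁ * s * (m₂ * m₁)⁻¹ = m₂ * (m₁ * s * m₁⁻¹) * m₂⁻¹ := by group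
      _ = m₂ * w * m₂ := by rw [inv_eq_of_orderOf ho, inv_eq_of_orderOf ho', e1]
      _ = t := by rw [← e2]; simp [mul_assoc, mul_self_of_orderOf ho', ← mul_assoc m₂ m₂]

end Cfsg.Agent.Involution.StrongEmb
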