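import Mathlib.GroupTheory.Sylow
import Mathlib.GroupTheory.SpecificGroups.Quaternion
import Mathlib.GroupTheory.Subgroup.Center
import Mathlib.GroupTheory.Commutator.Basic
import Mathlib.Tactic.Group
import Mathlib.Algebra.BigOperators.Group.Finset.Basic
import Cfsg.Prelude.Def_TwoFusion

/-!
A Sylow 2-subgroup `Q × R` with `Q` generalized quaternion and all involutions of `R` central in `R` has an
involution fixed by its normalizer and so weakly closed; with the Z*-theorem the group is not simple.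
-/

set_option autoImplicit false

namespace Cfsg.Agent.QuaternionFactor

open Subgroup
open scoped commutatorElement

variable {G : Type*} [Group G]

theorem exists_split {A B S : Subgroup G} (h : Cfsg.IsInternalDirectProduct A B S) {x : G} (hx : x ∈ S) :
    ∃ a ∈ A, ∃ b ∈ B, x = a * b := by
  obtain ⟨_, _, hc, _, hsup⟩ := h
  rw [← hsup] at hx
  have hn : A ≤ Subgroup.normalizer (B : Set G) := by
    intro a ha
    refine Subgroup.mem_normalizer_iff.mpr fun b => ?_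
    constructor
    · intro hb
      rw [hc a ha b hb, mul_inv_cancel_right]; exact hb
    · intro hb
      have := hc a⁻¹ (inv_mem ha) _ hb
      rw [show a⁻¹ * (a * b * a⁻¹) = b * a⁻¹ by group] at this
      rwa [mul_right_cancel this]
  have hx' : x ∈ ((A ⊔ B : Subgroup G) : Set G) := hx
  rw [Subgroup.coe_mul_of_left_le_normalizer_right A B hn] at hx'
  obtain ⟨a, ha, b, hb, rfl⟩ := Set.mem_mul.mp hx'
  exact ⟨a, ha, b, hb, rfl⟩

theorem split_sq_one {A B S : Subgroup G} (h : Cfsg.IsInternalDirectProduct A B S) {a b : G} (ha : a ∈ A)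
    (hb : b ∈ B) (h2 : (a * b) ^ 2 = 1) : a ^ 2 = 1 ∧ b ^ 2 = 1 := by
  obtain ⟨_, _, hc, hinf, _⟩ := h
  rw [Commute.mul_pow (hc a ha b hb)] at h2
  have hm : a ^ 2 ∈ A ⊓ B := ⟨pow_mem ha 2, by rw [eq_inv_of_mul_eq_one_left h2]; exact Subgroup.inv_mem _ (pow_mem hb 2)⟩
  rw [hinf, Subgroup.mem_bot] at hm
  exact ⟨hm, by rw [hm, one_mul] at h2; exact h2⟩

theorem quat_involution {n : ℕ} {w : QuaternionGroup (2 ^ n)} (hw : w ^ 2 = 1) (h1 : w ≠ 1) :
    w = QuaternionGroup.a ((2 ^ n : ℕ) : ZMod (2 * 2 ^ n)) := by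
  haveI : NeZero (2 * 2 ^ n) := ⟨by positivity⟩
  cases w with
  | a i =>
    have h2 : i + i = 0 := by
      rw [sq, QuaternionGroup.a_mul_a, ← QuaternionGroup.a_zero] at hw
      exact QuaternionGroup.a.inj hw
    have hi : i.val ≠ 0 := fun h0 => h1 (by
      rw [(ZMod.val_eq_zero i).mp h0, QuaternionGroup.a_zero])
    have hlt := ZMod.val_lt i
    have hd : 2 * 2 ^ n ∣ i.val + i.val := by
      rw [← ZMod.natCast_eq_zero_iff, Nat.cast_add, ZMod.natCast_zmod_val]; exact h2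
    obtain ⟨c, hc⟩ := hd
    have hc1 : c = 1 := by
      rcases c with _ | _ | c
      · omega
      · rfl
      · exfalso
        have : 2 * (2 * 2 ^ n) ≤ 2 * 2 ^ n * (c + 1 + 1) := by
          rw [Nat.mul_comm 2 (2 * 2 ^ n)]; exact Nat.mul_le_mul_left _ (by omega)
        omega
    have : i.val = 2 ^ n := by subst hc1; omega
    congr 1
    exact (ZMod.natCast_zmod_val i).symm.trans (by rw [this])
  | xa i =>
    exfalso
    rw [QuaternionGroup.xa_sq, ← QuaternionGroup.a_zero] at hw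
    have h := QuaternionGroup.a.inj hw
    rw [ZMod.natCast_eq_zero_iff] at h
    have := Nat.le_of_dvd (by positivity) h
    have : 0 < 2 ^ n := by positivity
    omega

/-- The facts about a generalized quaternion subgroup that are used below. -/
theorem quat_facts {n : ℕ} (hn : 1 ≤ n) {Q : Subgroup G} (e : ↥Q ≃* QuaternionGroup (2 ^ n)) :
    ∃ q ∈ Q, orderOf q = 2 ∧ (∀ w ∈ Q, w ^ 2 = 1 → w = 1 ∨ w = q) ∧ ∃ b ∈ Q, ∃ c ∈ Q, ⁅b, c⁆ = q := by
  haveI : NeZero (2 * 2 ^ n) := ⟨by positivity⟩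
  set z : QuaternionGroup (2 ^ n) := QuaternionGroup.a ((2 ^ n : ℕ) : ZMod (2 * 2 ^ n)) with hz
  have hz1 : z ≠ 1 := by
    rw [hz, ← QuaternionGroup.a_zero]
    intro h
    have h := QuaternionGroup.a.inj h
    rw [ZMod.natCast_eq_zero_iff] at h
    have := Nat.le_of_dvd (by positivity) h
    have : 0 < 2 ^ n := by positivity
    omega
  have hz2 : z ^ 2 = 1 := by rw [hz, ← QuaternionGroup.a_one_pow, ← pow_mul, mul_comm (2 ^ n) 2]; exact QuaternionGroup.a_one_pow_n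
  have hq2 : ((e.symm z : Q) : G) ^ 2 = 1 := by
    rw [← Subgroup.coe_pow, ← map_pow, hz2, map_one, Subgroup.coe_one]
  have hq1 : ((e.symm z : Q) : G) ≠ 1 := fun h => hz1 (e.symm.map_eq_one_iff.mp (Subtype.ext h))
  refine ⟨_, (e.symm z).2, orderOf_eq_prime hq2 hq1, ?_, ?_⟩
  · intro w hw hw2
    by_cases hw1 : e ⟨w, hw⟩ = 1
    · left; exact congrArg Subtype.val (e.map_eq_one_iff.mp hw1)
    · right
      have : e ⟨w, hw⟩ = z := quat_involution (by
        rw [← map_pow, show (⟨w, hw⟩ : Q) ^ 2 = 1 from Subtype.ext hw2, map_one]) hw1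
      rw [← this, e.symm_apply_apply]
  · set j : ZMod (2 * 2 ^ n) := ((2 ^ (n - 1) : ℕ) : ZMod (2 * 2 ^ n)) with hj
    have hjj : j + j = ((2 ^ n : ℕ) : ZMod (2 * 2 ^ n)) := by
      rw [hj, ← Nat.cast_add]; congr 1; rw [← two_mul, ← pow_succ', Nat.sub_add_cancel hn]
    have hcomm : ⁅(QuaternionGroup.a j : QuaternionGroup (2 ^ n)), QuaternionGroup.xa 0⁆ = z := by
      rw [commutatorElement_def, mul_inv_eq_iff_eq_mul, mul_inv_eq_iff_eq_mul, hz, ← hjj]
      simp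
    refine ⟨_, (e.symm (QuaternionGroup.a j)).2, _, (e.symm (QuaternionGroup.xa 0)).2, ?_⟩
    rw [← hcomm, map_commutatorElement, commutatorElement_def, commutatorElement_def]
    simp

/-- A direct factor is normalized by the whole product. -/
theorem conj_mem {A B S : Subgroup G} (h : Cfsg.IsInternalDirectProduct A B S) {s a : G} (hs : s ∈ S) (ha : a ∈ A) :
    s * a * s⁻¹ ∈ A := by
  obtain ⟨x, hx, y, hy, rfl⟩ := exists_split h hs
  have : y * a * y⁻¹ = a := by rw [← h.2.2.1 a ha y hy, mul_inv_cancel_right]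
  rw [show x * y * a * (x * y)⁻¹ = x * (y * a * y⁻¹) * x⁻¹ by group, this]
  exact mul_mem (mul_mem hx ha) (inv_mem hx)

theorem symm {A B S : Subgroup G} (h : Cfsg.IsInternalDirectProduct A B S) :
    Cfsg.IsInternalDirectProduct B A S :=
  ⟨h.2.1, h.1, fun b hb a ha => (h.2.2.1 a ha b hb).symm, by rw [inf_comm, h.2.2.2.1], by rw [sup_comm, h.2.2.2.2]⟩

/-- Two quaternion direct factors have equal central involutions or the second involution lies in the
complement of the first. -/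
theorem mem_complement_of_ne [Finite G] {n : ℕ} (hn : 1 ≤ n) {S Q R Q' R' : Subgroup G} (hS : IsPGroup 2 S)
    (h : Cfsg.IsInternalDirectProduct Q R S) (h' : Cfsg.IsInternalDirectProduct Q' R' S)
    (e : ↥Q ≃* QuaternionGroup (2 ^ n)) (e' : ↥Q' ≃* QuaternionGroup (2 ^ n))
    {q q' : G} (hq : q ∈ Q) (hqo : orderOf q = 2) (hq' : q' ∈ Q') (hqo' : orderOf q' = 2) (hne : q' ≠ q) :
    q' ∈ R := by
  by_contra hR
  apply hne
  obtain ⟨q0, hq0, hq0o, huniq, -⟩ := quat_facts hn e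
  obtain ⟨q1, hq1, hq1o, huniq', b, hb, c, hc, hbc⟩ := quat_facts hn e'
  have p2 : ∀ {w : G}, orderOf w = 2 → w ^ 2 = 1 := fun hw => hw ▸ pow_orderOf_eq_one _
  have ne1 : ∀ {w : G}, orderOf w = 2 → w ≠ 1 := fun hw h1 => by rw [h1, orderOf_one] at hw; omega
  have hqq : q = q0 := (huniq q hq (p2 hqo)).resolve_left (ne1 hqo)
  have hqq' : q' = q1 := (huniq' q' hq' (p2 hqo')).resolve_left (ne1 hqo')
  -- `Q'` meets `R` trivially
  have hinf : ∀ w ∈ Q', w ∈ R → w = 1 := by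
    intro w hw hwR
    by_contra hw1
    obtain ⟨k, hk⟩ := (IsPGroup.iff_orderOf (p := 2)).mp hS ⟨w, h'.1 hw⟩
    rw [Subgroup.orderOf_mk] at hk
    rcases k with _ | k
    · exact hw1 (orderOf_eq_one_iff.mp hk)
    · have h0 : (w ^ 2 ^ k) ^ 2 = 1 := by rw [← pow_mul, ← pow_succ, ← hk]; exact pow_orderOf_eq_one w
      have h1 : w ^ 2 ^ k ≠ 1 := fun h1 => by
        have hle := Nat.le_of_dvd (by positivity) (orderOf_dvd_of_pow_eq_one h1)
        rw [hk, pow_succ] at hle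
        have : 0 < 2 ^ k := by positivity
        omega
      have := (huniq' _ (pow_mem hw _) h0).resolve_left h1
      exact hR (hqq' ▸ this ▸ pow_mem hwR _)
  have hcR : ∀ w ∈ Q', ∀ r ∈ R, w * r = r * w := by
    intro w hw r hr
    have h1 : w * r * w⁻¹ * r⁻¹ ∈ R := mul_mem (conj_mem (symm h) (h'.1 hw) hr) (inv_mem hr)
    have h2 : w * r * w⁻¹ * r⁻¹ ∈ Q' := by
      rw [show w * r * w⁻¹ * r⁻¹ = w * (r * w⁻¹ * r⁻¹) by group]
      exact mul_mem hw (conj_mem h' (h.2.1 hr) (inv_mem hw))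
    have := hinf _ h2 h1
    rwa [mul_inv_eq_one, mul_inv_eq_iff_eq_mul] at this
  obtain ⟨b1, hb1, b2, hb2, hbe⟩ := exists_split h (h'.1 hb)
  obtain ⟨c1, hc1, c2, hc2, hce⟩ := exists_split h (h'.1 hc)
  have hbc2 : b2 * c2 = c2 * b2 := by
    have h1 : b1 * b2 * c2 = c2 * (b1 * b2) := hbe ▸ hcR b hb c2 hc2
    rw [← mul_assoc c2 b1 b2, ← h.2.2.1 b1 hb1 c2 hc2, mul_assoc, mul_assoc] at h1
    exact mul_left_cancel h1
  have hsplit : q' = ⁅b1, c1⁆ := by
    rw [hqq', ← hbc, hbe, hce, commutatorElement_def, commutatorElement_def]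
    have e1 : b2 * c1 = c1 * b2 := (h.2.2.1 c1 hc1 b2 hb2).symm
    have e2 : c2 * b1⁻¹ = b1⁻¹ * c2 := (h.2.2.1 b1⁻¹ (inv_mem hb1) c2 hc2).symm
    have e3 : b2⁻¹ * c1⁻¹ = c1⁻¹ * b2⁻¹ := (h.2.2.1 c1⁻¹ (inv_mem hc1) b2⁻¹ (inv_mem hb2)).symm
    have e4 : b2 * b1⁻¹ = b1⁻¹ * b2 := (h.2.2.1 b1⁻¹ (inv_mem hb1) b2 hb2).symm
    have e5 : c2 * c1⁻¹ = c1⁻¹ * c2 := (h.2.2.1 c1⁻¹ (inv_mem hc1) c2 hc2).symm
    calc b1 * b2 * (c1 * c2) * (b1 * b2)⁻¹ * (c1 * c2)⁻¹
        = b1 * (b2 * c1) * c2 * b2⁻¹ * b1⁻¹ * c2⁻¹ * c1⁻¹ := by group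
      _ = b1 * (c1 * b2) * c2 * b2⁻¹ * b1⁻¹ * c2⁻¹ * c1⁻¹ := by rw [e1]
      _ = b1 * c1 * (b2 * c2) * b2⁻¹ * b1⁻¹ * c2⁻¹ * c1⁻¹ := by group
      _ = b1 * c1 * (c2 * b2) * b2⁻¹ * b1⁻¹ * c2⁻¹ * c1⁻¹ := by rw [hbc2]
      _ = b1 * c1 * (c2 * b1⁻¹) * c2⁻¹ * c1⁻¹ := by group
      _ = b1 * c1 * (b1⁻¹ * c2) * c2⁻¹ * c1⁻¹ := by rw [e2]
      _ = b1 * c1 * b1⁻¹ * c1⁻¹ := by group
  have hQ : q' ∈ Q := hsplit ▸ mul_mem (mul_mem (mul_mem hb1 hc1) (inv_mem hb1)) (inv_mem hc1)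
  rw [hqq]
  exact (huniq q' hQ (p2 hqo')).resolve_left (ne1 hqo')

/-- All involutions of `Q × R` are central. -/
theorem involution_central {n : ℕ} (hn : 1 ≤ n) {S Q R : Subgroup G} (h : Cfsg.IsInternalDirectProduct Q R S)
    (e : ↥Q ≃* QuaternionGroup (2 ^ n)) (hR : ∀ r ∈ R, orderOf r = 2 → ∀ s ∈ R, r * s = s * r)
    {u : G} (hu : u ∈ S) (hu2 : u ^ 2 = 1) : ∀ s ∈ S, u * s = s * u := by
  intro s hs
  obtain ⟨a, ha, b, hb, rfl⟩ := exists_split h hu
  obtain ⟨ha2, hb2⟩ := split_sq_one h ha hb hu2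
  obtain ⟨x, hx, y, hy, rfl⟩ := exists_split h hs
  obtain ⟨q, hq, hqo, huniq, -⟩ := quat_facts hn e
  have h1 : a * x = x * a := by
    rcases huniq a ha ha2 with rfl | rfl
    · simp
    · have hc : (x * a * x⁻¹) ^ 2 = 1 := by rw [conj_pow, ha2, mul_one, mul_inv_cancel]
      rcases huniq _ (mul_mem (mul_mem hx ha) (inv_mem hx)) hc with h0 | h0
      · rw [mul_inv_eq_one, mul_eq_left] at h0
        rw [h0]; simp
      · exact (mul_inv_eq_iff_eq_mul.mp h0).symm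
  have h2 : b * y = y * b := by
    by_cases hb1 : b = 1
    · rw [hb1]; simp
    · exact hR b hb (orderOf_eq_prime hb2 hb1) y hy
  calc a * b * (x * y) = a * (b * x) * y := by group
    _ = a * (x * b) * y := by rw [h.2.2.1 x hx b hb]
    _ = (a * x) * (b * y) := by group
    _ = (x * a) * (y * b) := by rw [h1, h2]
    _ = x * (a * y) * b := by group
    _ = x * (y * a) * b := by rw [h.2.2.1 a ha y hy]
    _ = x * y * (a * b) := by group

/-- There is an involution of the Sylow 2-subgroup that is equal to each of its conjugates there. -/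
theorem exists_weaklyClosed_involution [Finite G] (S : Sylow 2 G) {Q R : Subgroup G}
    (h : Cfsg.IsInternalDirectProduct Q R (S : Subgroup G)) {n : ℕ} (hn : 1 ≤ n)
    (e : ↥Q ≃* QuaternionGroup (2 ^ n)) (hR : ∀ r ∈ R, orderOf r = 2 → ∀ s ∈ R, r * s = s * r) :
    ∃ z : G, orderOf z = 2 ∧ z ∈ S ∧ ∀ g : G, g * z * g⁻¹ ∈ S → g * z * g⁻¹ = z := by
  classical
  set A : Subgroup G := (S : Subgroup G) ⊓ Subgroup.centralizer ((S : Subgroup G) : Set G) with hA
  letI : CommGroup A := { (inferInstance : Group A) with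
    mul_comm := fun a b => Subtype.ext ((Subgroup.mem_centralizer_iff.mp b.2.2) a.1 a.2.1) }
  have hinA : ∀ u ∈ (S : Subgroup G), u ^ 2 = 1 → u ∈ A := fun u hu hu2 =>
    ⟨hu, Subgroup.mem_centralizer_iff.mpr fun s hs => (involution_central hn h e hR hu hu2 s hs).symm⟩
  have p2 : ∀ {w : G}, orderOf w = 2 → w ^ 2 = 1 := fun hw => hw ▸ pow_orderOf_eq_one _
  let P : A → Prop := fun a => orderOf (a : G) = 2 ∧ ∃ Q R : Subgroup G,
    Cfsg.IsInternalDirectProduct Q R (S : Subgroup G) ∧ Nonempty (↥Q ≃* QuaternionGroup (2 ^ n)) ∧ (a : G) ∈ Q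
  haveI : Fintype A := Fintype.ofFinite A
  set T : Finset A := Finset.univ.filter P with hT
  set z : A := ∏ a ∈ T, a with hz
  obtain ⟨q, hq, hqo, -, -⟩ := quat_facts hn e
  have hqA : q ∈ A := hinA q (h.1 hq) (p2 hqo)
  have hqT : (⟨q, hqA⟩ : A) ∈ T := Finset.mem_filter.mpr ⟨Finset.mem_univ _, hqo, Q, R, h, ⟨e⟩, hq⟩
  have hz2 : z ^ 2 = 1 := by
    rw [hz, ← Finset.prod_pow]
    exact Finset.prod_eq_one fun a ha => Subtype.ext (p2 (Finset.mem_filter.mp ha).2.1)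
  have hz1 : z ≠ 1 := by
    intro h1
    have hrest : (((∏ a ∈ T.erase ⟨q, hqA⟩, a : A)) : G) ∈ R := by
      suffices hh : (∏ a ∈ T.erase ⟨q, hqA⟩, a : A) ∈ R.subgroupOf A from hh
      refine prod_mem fun a ha => ?_
      obtain ⟨hne, haT⟩ := Finset.mem_erase.mp ha
      obtain ⟨hao, Q', R', h', ⟨e'⟩, haQ⟩ := (Finset.mem_filter.mp haT).2
      exact mem_complement_of_ne hn S.2 h h' e e' hq hqo haQ hao (fun heq => hne (Subtype.ext heq))
    have hmul : q * (((∏ a ∈ T.erase ⟨q, hqA⟩, a : A)) : G) = 1 := by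
      have := congrArg Subtype.val ((Finset.mul_prod_erase T (fun a => a) hqT).trans (hz.symm.trans h1))
      exact this
    have : q ∈ Q ⊓ R := ⟨hq, by rw [eq_inv_of_mul_eq_one_left hmul]; exact Subgroup.inv_mem _ hrest⟩
    rw [h.2.2.2.1, Subgroup.mem_bot] at this
    rw [this, orderOf_one] at hqo; omega
  have hzo : orderOf (z : G) = 2 := orderOf_eq_prime (congrArg Subtype.val hz2) (fun h0 => hz1 (Subtype.ext h0))
  refine ⟨z, hzo, z.2.1, ?_⟩
  intro g hg
  have hgA : g * (z : G) * g⁻¹ ∈ A := hinA _ hg (by rw [conj_pow, p2 hzo, mul_one, mul_inv_cancel])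
  obtain ⟨m, hm, hme⟩ := Sylow.conj_eq_normalizer_conj_of_mem_centralizer S (z : G) g⁻¹ z.2.2
    (by rw [inv_inv]; exact hgA.2)
  rw [inv_inv] at hme
  rw [hme]
  -- conjugation by the normalizer of `S` fixes `z`
  have hm' : m⁻¹ ∈ Subgroup.normalizer ((S : Subgroup G) : Set G) := inv_mem hm
  have hnorm : ∀ w : G, w ∈ (S : Subgroup G) ↔ m⁻¹ * w * m ∈ (S : Subgroup G) := fun w => by
    have := Subgroup.mem_normalizer_iff.mp hm' w
    rwa [inv_inv] at this
  set φ : G ≃* G := MulAut.conj m⁻¹ with hφ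
  have hφS : (S : Subgroup G).map φ.toMonoidHom = (S : Subgroup G) := by
    ext w
    constructor
    · rintro ⟨v, hv, rfl⟩
      simpa [hφ] using (hnorm v).mp hv
    · intro hw
      refine ⟨φ.symm w, (hnorm _).mpr ?_, φ.apply_symm_apply w⟩
      have := φ.apply_symm_apply w
      simp only [hφ, MulAut.conj_apply, inv_inv] at this
      rw [← hφ] at this
      rw [this]; exact hw
  have hmap : ∀ a : A, φ (a : G) ∈ A := by
    intro a
    refine ⟨hφS ▸ Subgroup.mem_map_of_mem φ.toMonoidHom a.2.1, Subgroup.mem_centralizer_iff.mpr fun s hs => ?_⟩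
    rw [← hφS] at hs
    obtain ⟨v, hv, rfl⟩ := hs
    change φ v * φ a = φ a * φ v
    rw [← map_mul, ← map_mul, Subgroup.mem_centralizer_iff.mp a.2.2 v hv]
  let ψ : A →* A := (φ.toMonoidHom.comp A.subtype).codRestrict A hmap
  have hψinj : Function.Injective ψ := fun a b hab => Subtype.ext (φ.injective (congrArg Subtype.val hab))
  have hψT : T.image ψ = T := by
    refine Finset.eq_of_subset_of_card_le ?_ (le_of_eq (Finset.card_image_of_injective T hψinj).symm)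
    intro b hb
    obtain ⟨a, ha, rfl⟩ := Finset.mem_image.mp hb
    obtain ⟨hao, Q', R', h', ⟨e'⟩, haQ⟩ := (Finset.mem_filter.mp ha).2
    refine Finset.mem_filter.mpr ⟨Finset.mem_univ _, ?_, Q'.map φ.toMonoidHom, R'.map φ.toMonoidHom, ?_,
      ⟨(φ.subgroupMap Q').symm.trans e'⟩, Subgroup.mem_map_of_mem φ.toMonoidHom haQ⟩
    · change orderOf (φ (a : G)) = 2
      rw [φ.orderOf_eq, hao]
    · obtain ⟨h1, h2, h3, h4, h5⟩ := h'
      refine ⟨hφS ▸ Subgroup.map_mono h1, hφS ▸ Subgroup.map_mono h2, ?_, ?_, ?_⟩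
      · rintro _ ⟨x, hx, rfl⟩ _ ⟨y, hy, rfl⟩
        rw [← map_mul, h3 x hx y hy, map_mul]
      · rw [← Subgroup.map_inf _ _ _ φ.injective, h4, Subgroup.map_bot]
      · rw [← Subgroup.map_sup, h5, hφS]
  have hψz : ψ z = z := by
    rw [hz, map_prod]
    calc ∏ a ∈ T, ψ a = ∏ b ∈ T.image ψ, b := (Finset.prod_image (f := fun b : A => b) (fun a _ b _ hab => hψinj hab)).symm
      _ = ∏ a ∈ T, a := by rw [hψT]
  have := congrArg Subtype.val hψz
  simpa [ψ, hφ] using this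

/-- Non-simplicity, given the Z*-theorem. -/
theorem not_isSimpleGroup_of_zStar [Finite G] (S : Sylow 2 G) {Q R : Subgroup G}
    (h : Cfsg.IsInternalDirectProduct Q R (S : Subgroup G)) {n : ℕ} (hn : 1 ≤ n)
    (e : ↥Q ≃* QuaternionGroup (2 ^ n)) (hR : ∀ r ∈ R, orderOf r = 2 → ∀ s ∈ R, r * s = s * r)
    (hZ : ∀ u : G, orderOf u = 2 → u ∈ S → (∀ g : G, g * u * g⁻¹ ∈ S → g * u * g⁻¹ = u) →
      ∃ N : Subgroup G, N.Normal ∧ Odd (Nat.card N) ∧ ∀ g : G, (u * g * u⁻¹ * g⁻¹) ∈ N) :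
    ¬ IsSimpleGroup G := by
  intro hs
  obtain ⟨z, hzo, hzS, hiso⟩ := exists_weaklyClosed_involution S h hn e hR
  obtain ⟨N, hN, hodd, hNc⟩ := hZ z hzo hzS hiso
  rcases hs.eq_bot_or_eq_top_of_normal N hN with rfl | rfl
  · have hzc : z ∈ Subgroup.center G := Subgroup.mem_center_iff.mpr fun g => by
      have := Subgroup.mem_bot.mp (hNc g)
      rw [mul_inv_eq_one, mul_inv_eq_iff_eq_mul] at this
      exact this.symm
    rcases hs.eq_bot_or_eq_top_of_normal (Subgroup.center G) inferInstance with h0 | h0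
    · rw [h0, Subgroup.mem_bot] at hzc
      rw [hzc, orderOf_one] at hzo; omega
    · obtain ⟨q, -, hqo, -, b, -, c, -, hbc⟩ := quat_facts hn e
      have : b * c = c * b := (Subgroup.mem_center_iff.mp (by rw [h0]; exact Subgroup.mem_top c : c ∈ Subgroup.center G)) b
      rw [commutatorElement_def, this] at hbc
      simp at hbc
      rw [← hbc, orderOf_one] at hqo; omega
  · rw [Subgroup.card_top] at hodd
    exact Nat.not_even_iff_odd.mpr hodd (even_iff_two_dvd.mpr (hzo ▸ orderOf_dvd_natCard z))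

end Cfsg.Agent.QuaternionFactor
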