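import Mathlib.GroupTheory.OrderOfElement
import Mathlib.GroupTheory.SpecificGroups.Dihedral
import Mathlib.GroupTheory.PGroup
import Mathlib.GroupTheory.Sylow

/-!
Two involutions `x`, `y`: the subgroup they generate, and conjugacy of `x` and `y` in it.
-/

set_option autoImplicit false

namespace Cfsg.Agent.Involution

variable {G : Type*} [Group G]

theorem sq_of_orderOf_two {x : G} (hx : orderOf x = 2) : x * x = 1 := by
  have h := pow_orderOf_eq_one x
  rwa [hx, pow_two] at h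

theorem inv_of_orderOf_two {x : G} (hx : orderOf x = 2) : x⁻¹ = x :=
  inv_eq_of_mul_eq_one_right (sq_of_orderOf_two hx)

/-- An involution `x` inverts `x * y` when `y` is an involution. -/
theorem invol_conj_mul {x y : G} (hx : x * x = 1) (hy : y * y = 1) :
    x * (x * y) * x⁻¹ = (x * y)⁻¹ := by
  rw [mul_inv_rev, inv_eq_of_mul_eq_one_right hy, inv_eq_of_mul_eq_one_right hx, ← mul_assoc x x y,
    hx, one_mul]

theorem invol_conj_zpow {x z : G} (h : x * z * x⁻¹ = z⁻¹) (k : ℤ) :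
    x * z ^ k * x⁻¹ = z ^ (-k) := by
  have h' : MulAut.conj x z = z⁻¹ := h
  have := map_zpow (MulAut.conj x) z k
  rw [h', inv_zpow', MulAut.conj_apply] at this
  exact this

theorem zpow_mul_invol {x z : G} (h : x * z * x⁻¹ = z⁻¹) (k : ℤ) :
    z ^ k * x = x * z ^ (-k) := by
  have := invol_conj_zpow h (-k)
  rw [neg_neg] at this
  rw [← this]; group

/-- Every element of `⟨x, y⟩` is a power of `x*y` or `x` times a power of `x*y`. -/
theorem mem_closure_pair_cases {x y : G} (hx : x * x = 1) (hy : y * y = 1) {d : G}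
    (hd : d ∈ Subgroup.closure ({x, y} : Set G)) :
    ∃ k : ℤ, d = (x * y) ^ k ∨ d = x * (x * y) ^ k := by
  have hz := invol_conj_mul hx hy
  induction hd using Subgroup.closure_induction with
  | mem a ha =>
    rcases ha with rfl | rfl
    · exact ⟨0, Or.inr (by simp)⟩
    · refine ⟨1, Or.inr ?_⟩
      rw [zpow_one, ← mul_assoc, hx, one_mul]
  | one => exact ⟨0, Or.inl (by simp)⟩
  | mul a b _ _ iha ihb =>
    obtain ⟨i, hi⟩ := iha
    obtain ⟨j, hj⟩ := ihb
    rcases hi with rfl | rfl <;> rcases hj with rfl | rfl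
    · exact ⟨i + j, Or.inl (zpow_add _ _ _).symm⟩
    · exact ⟨-i + j, Or.inr (by rw [← mul_assoc, zpow_mul_invol hz, mul_assoc, ← zpow_add])⟩
    · exact ⟨i + j, Or.inr (by rw [mul_assoc, ← zpow_add])⟩
    · refine ⟨-i + j, Or.inl ?_⟩
      rw [mul_assoc, ← mul_assoc ((x * y) ^ i), zpow_mul_invol hz, mul_assoc x, ← mul_assoc x x,
        hx, one_mul, ← zpow_add]
  | inv a _ iha =>
    obtain ⟨i, hi⟩ := iha
    rcases hi with rfl | rfl
    · exact ⟨-i, Or.inl (zpow_neg _ _).symm⟩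
    · refine ⟨i, Or.inr ?_⟩
      rw [mul_inv_rev, inv_eq_of_mul_eq_one_right hx, ← zpow_neg, zpow_mul_invol hz, neg_neg]

theorem left_mem_closure_pair (x y : G) : x ∈ Subgroup.closure ({x, y} : Set G) :=
  Subgroup.subset_closure (Set.mem_insert _ _)

theorem right_mem_closure_pair (x y : G) : y ∈ Subgroup.closure ({x, y} : Set G) :=
  Subgroup.subset_closure (Set.mem_insert_of_mem _ rfl)

theorem zpow_mem_closure_pair (x y : G) (k : ℤ) :
    (x * y) ^ k ∈ Subgroup.closure ({x, y} : Set G) :=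
  zpow_mem (mul_mem (left_mem_closure_pair x y) (right_mem_closure_pair x y)) k

theorem invol_conj_self_zpow {x y : G} (hx : x * x = 1) (hy : y * y = 1) (k : ℤ) :
    (x * y) ^ k * x * ((x * y) ^ k)⁻¹ = x * (x * y) ^ (-(2 * k)) := by
  rw [zpow_mul_invol (invol_conj_mul hx hy), ← zpow_neg, mul_assoc, ← zpow_add]
  congr 2; ring

/-- The conjugates of `x` in `⟨x, y⟩` are the `x * (x*y)^(2k)`. -/
theorem conj_of_mem_closure_pair {x y : G} (hx : x * x = 1) (hy : y * y = 1) {d : G}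
    (hd : d ∈ Subgroup.closure ({x, y} : Set G)) :
    ∃ k : ℤ, d * x * d⁻¹ = x * (x * y) ^ (2 * k) := by
  obtain ⟨k, rfl | rfl⟩ := mem_closure_pair_cases hx hy hd
  · exact ⟨-k, by rw [invol_conj_self_zpow hx hy, mul_neg]⟩
  · refine ⟨k, ?_⟩
    have := invol_conj_self_zpow hx hy k
    calc x * (x * y) ^ k * x * (x * (x * y) ^ k)⁻¹
        = x * ((x * y) ^ k * x * ((x * y) ^ k)⁻¹) * x⁻¹ := by group
      _ = x * (x * (x * y) ^ (-(2 * k))) * x⁻¹ := by rw [this]
      _ = x * ((x * y) ^ (2 * k)) := by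
          rw [mul_assoc x (x * _) _, mul_assoc x ((x * y) ^ _) x⁻¹, ← mul_assoc x ((x*y) ^ _) x⁻¹,
            invol_conj_zpow (invol_conj_mul hx hy), neg_neg]

theorem exists_conj_pair_of_odd {x y : G} (hx : x * x = 1) (hy : y * y = 1)
    (hodd : Odd (orderOf (x * y))) :
    ∃ d ∈ Subgroup.closure ({x, y} : Set G), d * x * d⁻¹ = y := by
  obtain ⟨m, hm⟩ := hodd
  refine ⟨(x * y) ^ (m : ℤ), zpow_mem_closure_pair x y _, ?_⟩
  rw [invol_conj_self_zpow hx hy]
  have h1 : (x * y) ^ (-(2 * (m : ℤ))) = x * y := by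
    have h2 : (x * y) ^ ((2 * m + 1 : ℕ) : ℤ) = 1 := by
      rw [zpow_natCast, ← hm, pow_orderOf_eq_one]
    have : (-(2 * (m : ℤ))) = 1 - ((2 * m + 1 : ℕ) : ℤ) := by push_cast; ring
    rw [this, zpow_sub, h2, zpow_one, inv_one, mul_one]
  rw [h1, ← mul_assoc, hx, one_mul]

theorem not_conj_pair_of_even {x y : G} (hx : x * x = 1) (hy : y * y = 1)
    (heven : Even (orderOf (x * y))) {d : G} (hd : d ∈ Subgroup.closure ({x, y} : Set G)) :
    d * x * d⁻¹ ≠ y := by
  intro he
  obtain ⟨k, hk⟩ := conj_of_mem_closure_pair hx hy hd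
  rw [he] at hk
  have h1 : (x * y) ^ (2 * k) = (x * y) ^ (1 : ℤ) := by
    rw [zpow_one]
    conv_rhs => rw [hk, ← mul_assoc, hx, one_mul]
  rw [zpow_eq_zpow_iff_modEq] at h1
  obtain ⟨n, hn⟩ := heven
  rw [hn, Int.modEq_iff_dvd] at h1
  push_cast at h1
  obtain ⟨c, hc⟩ := h1
  have : (2 : ℤ) ∣ 1 := ⟨k + n * c, by linarith⟩
  norm_num at this

/-- Two involutions whose product has `p`-power order (`p = 2`) generate a 2-group. -/
theorem isPGroup_closure_pair {x y : G} (hx : x * x = 1) (hy : y * y = 1) {a : ℕ}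
    (ha : (x * y) ^ (2 ^ a) = 1) :
    IsPGroup 2 (Subgroup.closure ({x, y} : Set G)) := by
  intro d
  obtain ⟨k, hk | hk⟩ := mem_closure_pair_cases hx hy d.2
  · refine ⟨a, Subtype.ext ?_⟩
    rw [SubmonoidClass.coe_pow, hk, OneMemClass.coe_one]
    rw [← zpow_natCast, ← zpow_mul, mul_comm, zpow_mul, zpow_natCast, ha, one_zpow]
  · refine ⟨1, Subtype.ext ?_⟩
    rw [SubmonoidClass.coe_pow, hk, OneMemClass.coe_one, pow_one, pow_two, mul_assoc,
      ← mul_assoc ((x * y) ^ k), zpow_mul_invol (invol_conj_mul hx hy), mul_assoc x,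
      ← mul_assoc x x, hx, one_mul, ← zpow_add, neg_add_cancel, zpow_zero]

/-- The central involution of `⟨x, y⟩` when `x*y` has even order. -/
theorem half_power_facts [Finite G] {x y : G} (hx : x * x = 1) (hy : y * y = 1)
    (heven : Even (orderOf (x * y))) :
    orderOf ((x * y) ^ (orderOf (x * y) / 2)) = 2 ∧
      Commute ((x * y) ^ (orderOf (x * y) / 2)) x ∧
      Commute ((x * y) ^ (orderOf (x * y) / 2)) y := by
  obtain ⟨m, hm⟩ := heven
  have hpos := orderOf_pos (x * y)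
  have hdiv : orderOf (x * y) / 2 = m := by omega
  have hord : orderOf ((x * y) ^ m) = 2 := by
    rw [orderOf_pow' _ (by omega), hm, Nat.gcd_eq_right (dvd_add (dvd_refl m) (dvd_refl m))]
    rw [show m + m = 2 * m by omega, Nat.mul_div_cancel _ (by omega : 0 < m)]
  have hinv : ((x * y) ^ m)⁻¹ = (x * y) ^ m := inv_of_orderOf_two hord
  have hcx : Commute ((x * y) ^ m) x := by
    have := invol_conj_zpow (invol_conj_mul hx hy) (m : ℤ)
    rw [zpow_neg, zpow_natCast, hinv] at this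
    exact (mul_inv_eq_iff_eq_mul.mp this).symm
  rw [hdiv]
  refine ⟨hord, hcx, ?_⟩
  have hy' : y = x * (x * y) := by rw [← mul_assoc, hx, one_mul]
  conv_rhs => rw [hy']
  exact hcx.mul_right ((Commute.refl _).pow_left m)

/-- `x*y` of even order: replacing `y` by a conjugate inside `⟨x,y⟩`-type elements,
some conjugate `y'` of `y` generates a 2-group with `x` and is different from `x`. -/
theorem exists_conj_two_power [Finite G] {x y : G} (hx : x * x = 1) (hy : y * y = 1)
    (heven : Even (orderOf (x * y))) :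
    ∃ d : G, d * y * d⁻¹ ≠ x ∧ ∃ a : ℕ, (x * (d * y * d⁻¹)) ^ (2 ^ a) = 1 := by
  obtain ⟨a, m, hm, hn⟩ := Nat.exists_eq_two_pow_mul_odd (orderOf_pos (x * y)).ne'
  obtain ⟨i, hi⟩ := hm
  -- `d * y * d⁻¹ = x * (x*y)^m`
  refine ⟨(x * y) ^ (-(i : ℤ)), ?_, a, ?_⟩
  all_goals
    have hz := invol_conj_mul hx hy
    have hy' : y = x * (x * y) := by rw [← mul_assoc, hx, one_mul]
    have hkey : (x * y) ^ (-(i : ℤ)) * y * ((x * y) ^ (-(i : ℤ)))⁻¹ = x * (x * y) ^ (m : ℤ) := by
      conv_lhs => arg 1; arg 2; rw [hy']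
      rw [← mul_assoc, zpow_mul_invol hz, neg_neg, mul_assoc x, mul_assoc x, ← zpow_neg, neg_neg,
        ← zpow_add_one, ← zpow_add]
      congr 2; rw [hi]; push_cast; ring
    rw [hkey, zpow_natCast]
  · intro h
    have h1 : (x * y) ^ m = 1 := by
      have := congrArg (x⁻¹ * ·) h
      simpa using this
    have hd := orderOf_dvd_of_pow_eq_one h1
    have h2 : 2 ∣ m := (heven.two_dvd).trans hd
    omega
  · rw [← mul_assoc, hx, one_mul, ← pow_mul, mul_comm, ← hn, pow_orderOf_eq_one]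

end Cfsg.Agent.Involution
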