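import Cfsg.Prelude.Def_TwoFusion
import Mathlib.GroupTheory.Sylow
import Mathlib.GroupTheory.Index
import Mathlib.Tactic.Group

/-!
# Isolated involutions: the elementary theory

Pairs of involutions with product of odd order, square roots of elements of odd order, and the
basic facts about an isolated involution `z`: any two conjugates have product of odd order, a product
of two distinct conjugates commutes with no conjugate, `G = K C(z)` with `K` the elements of odd
order inverted by `z`, and the order formula attached to a second involution commuting with `z`.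
-/

namespace Cfsg.Agent.Involution.Isolated

variable {G : Type*} [Group G]

/-- The square root of an element of odd order inside the cyclic group it generates. -/
noncomputable def oddRoot (r : G) : G := r ^ ((orderOf r + 1) / 2)

theorem oddRoot_mul_self {r : G} (h : Odd (orderOf r)) : oddRoot r * oddRoot r = r := by
  obtain ⟨k, hk⟩ := h
  have h1 : (orderOf r + 1) / 2 + (orderOf r + 1) / 2 = orderOf r + 1 := by omega
  rw [oddRoot, ← pow_add, h1, pow_succ, pow_orderOf_eq_one, one_mul]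

theorem odd_orderOf_pow {r : G} (h : Odd (orderOf r)) (n : ℕ) : Odd (orderOf (r ^ n)) :=
  h.of_dvd_nat (orderOf_pow_dvd n)

theorem odd_orderOf_oddRoot {r : G} (h : Odd (orderOf r)) : Odd (orderOf (oddRoot r)) :=
  odd_orderOf_pow h _

theorem sq_inj {a b : G} (ha : Odd (orderOf a)) (hb : Odd (orderOf b)) (h : a * a = b * b) :
    a = b := by
  obtain ⟨k, hk⟩ := ha.mul hb
  have key : ∀ c : G, orderOf c ∣ orderOf a * orderOf b → c = (c * c) ^ (k + 1) := by
    intro c hc
    have : c ^ (orderOf a * orderOf b) = 1 := orderOf_dvd_iff_pow_eq_one.mp hc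
    rw [← pow_two, ← pow_mul, show 2 * (k + 1) = orderOf a * orderOf b + 1 by omega, pow_succ,
      this, one_mul]
  rw [key a (dvd_mul_right _ _), key b (dvd_mul_left _ _), h]

theorem eq_one_of_eq_inv {d : G} (hd : Odd (orderOf d)) (h : d = d⁻¹) : d = 1 :=
  sq_inj hd (by simp) (by
    rw [mul_one]
    nth_rw 2 [h]
    exact mul_inv_cancel d)

theorem inv_mul_self_eq {u : G} (h : u * u = 1) : u⁻¹ = u := inv_eq_of_mul_eq_one_right h

/-- Conjugation by either of two involutions inverts their product. -/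
theorem conj_pow_eq {u v : G} (hu : u * u = 1) (hv : v * v = 1) (j : ℕ) :
    u * (u * v) ^ j * u = ((u * v) ^ j)⁻¹ := by
  induction j with
  | zero => simp [hu]
  | succ j ih =>
      rw [pow_succ, mul_inv_rev, mul_inv_rev, inv_mul_self_eq hu, inv_mul_self_eq hv, ← ih]
      calc u * ((u * v) ^ j * (u * v)) * u = u * (u * v) ^ j * u * (v * u) := by
            simp [mul_assoc, ← mul_assoc u u, hu]
        _ = v * u * (u * (u * v) ^ j * u) := by
            rw [ih, show v * u = (u * v)⁻¹ by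
              rw [mul_inv_rev, inv_mul_self_eq hu, inv_mul_self_eq hv]]
            exact ((Commute.refl (u * v)).pow_left j).inv_inv.eq

theorem reflection_mul_self {u v : G} (hu : u * u = 1) (hv : v * v = 1) (j : ℕ) :
    (u * (u * v) ^ j) * (u * (u * v) ^ j) = 1 := by
  calc (u * (u * v) ^ j) * (u * (u * v) ^ j) = (u * (u * v) ^ j * u) * (u * v) ^ j := by
        simp [mul_assoc]
    _ = 1 := by rw [conj_pow_eq hu hv, inv_mul_cancel]

theorem conj_pow_left {u v : G} (hu : u * u = 1) (hv : v * v = 1) (j : ℕ) :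
    ((u * v) ^ j)⁻¹ * u * (u * v) ^ j = u * (u * v) ^ (j + j) := by
  rw [pow_add, ← conj_pow_eq hu hv]
  simp [mul_assoc, ← mul_assoc u u, hu]

/-- The involution in the middle of two involutions with product of odd order. -/
noncomputable def middle (u v : G) : G := u * oddRoot (u * v)

theorem middle_mul_self {u v : G} (hu : u * u = 1) (hv : v * v = 1) :
    middle u v * middle u v = 1 := reflection_mul_self hu hv _

theorem middle_conj {u v : G} (hu : u * u = 1) (hv : v * v = 1) (h : Odd (orderOf (u * v))) :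
    middle u v * u * middle u v = v := by
  have h1 := oddRoot_mul_self h
  have h2 : u * oddRoot (u * v) * u = (oddRoot (u * v))⁻¹ := conj_pow_eq hu hv _
  calc middle u v * u * middle u v
      = (u * oddRoot (u * v) * u) * (u * oddRoot (u * v)) := rfl
    _ = (oddRoot (u * v))⁻¹ * u * oddRoot (u * v) := by rw [h2, mul_assoc]
    _ = u * (oddRoot (u * v) * oddRoot (u * v)) :=
        (conj_pow_left hu hv _).trans (by rw [oddRoot, ← pow_add])
    _ = v := by rw [h1, ← mul_assoc, hu, one_mul]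

/-- The middle is a conjugate of either end. -/
theorem isConj_middle {u v : G} (hu : u * u = 1) (hv : v * v = 1) (h : Odd (orderOf (u * v))) :
    IsConj u (middle u v) := by
  have hodd := odd_orderOf_oddRoot h
  set j := (orderOf (u * v) + 1) / 2 with hj
  set i := (orderOf (oddRoot (u * v)) + 1) / 2 with hi
  have h1 : (u * v) ^ (j * i + j * i) = (u * v) ^ j := by
    have := oddRoot_mul_self hodd
    simp only [oddRoot] at this
    rw [pow_add, pow_mul]
    exact this
  refine isConj_iff.mpr ⟨((u * v) ^ (j * i))⁻¹, ?_⟩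
  rw [inv_inv, conj_pow_left hu hv, h1]
  rfl

/-- A conjugate (by `m`) of an element is again one, for an involution `m`. -/
theorem isConj_conj {m u : G} (hm : m * m = 1) : IsConj u (m * u * m) :=
  isConj_iff.mpr ⟨m, by rw [inv_mul_self_eq hm]⟩

section

variable {z : G} (hz : Cfsg.IsIsolatedInvolution z)
include hz

theorem mul_self : z * z = 1 := by
  have := pow_orderOf_eq_one z
  rwa [hz.1, pow_two] at this

theorem conj_mul_self {s : G} (hs : IsConj z s) : s * s = 1 := by
  obtain ⟨g, rfl⟩ := isConj_iff.mp hs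
  calc g * z * g⁻¹ * (g * z * g⁻¹) = g * (z * z) * g⁻¹ := by group
    _ = 1 := by rw [mul_self hz]; group

theorem isolated_of_isConj {s : G} (hs : IsConj z s) : Cfsg.IsIsolatedInvolution s := by
  obtain ⟨g, rfl⟩ := isConj_iff.mp hs
  refine ⟨?_, fun h hc => ?_⟩
  · have := (MulAut.conj g).orderOf_eq z
    rw [MulAut.conj_apply] at this
    rw [this, hz.1]
  · have h1 : g * ((g⁻¹ * h * g) * z * (g⁻¹ * h * g)⁻¹) * g⁻¹ = h * (g * z * g⁻¹) * h⁻¹ := by
      group
    rw [← h1] at hc ⊢
    have h2 : Commute z ((g⁻¹ * h * g) * z * (g⁻¹ * h * g)⁻¹) :=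
      (MulAut.conj g).injective (by
        generalize (g⁻¹ * h * g) * z * (g⁻¹ * h * g)⁻¹ = w at hc ⊢
        show g * (z * w) * g⁻¹ = g * (w * z) * g⁻¹
        calc g * (z * w) * g⁻¹ = g * z * g⁻¹ * (g * w * g⁻¹) := by group
          _ = g * w * g⁻¹ * (g * z * g⁻¹) := hc.eq
          _ = g * (w * z) * g⁻¹ := by group)
    rw [hz.2 _ h2]

theorem eq_of_commute {s t : G} (hs : IsConj z s) (ht : IsConj z t) (h : Commute s t) : t = s := by
  obtain ⟨g, hg⟩ := isConj_iff.mp (hs.symm.trans ht)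
  rw [← hg] at h ⊢
  exact (isolated_of_isConj hz hs).2 g h

variable [Finite G]

/-- The product of two conjugates of an isolated involution has odd order. -/
theorem odd_orderOf_mul {s t : G} (hs : IsConj z s) (ht : IsConj z t) :
    Odd (orderOf (s * t)) := by
  rw [← Nat.not_even_iff_odd]
  rintro ⟨m, hm⟩
  have hu := conj_mul_self hz hs
  have hv := conj_mul_self hz ht
  have hpos := orderOf_pos (s * t)
  have hw : ((s * t) ^ m)⁻¹ = (s * t) ^ m := inv_eq_of_mul_eq_one_right (by
    rw [← pow_add, ← hm, pow_orderOf_eq_one])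
  have hne : (s * t) ^ m ≠ 1 :=
    pow_ne_one_of_lt_orderOf (by omega) (by omega)
  have hcomm : Commute s (s * (s * t) ^ m) := by
    have h1 := conj_pow_eq hu hv m
    rw [hw] at h1
    show s * (s * (s * t) ^ m) = s * (s * t) ^ m * s
    rw [h1, ← mul_assoc, hu, one_mul]
  have hne' : s * (s * t) ^ m ≠ s := fun h => hne (mul_eq_left.mp h)
  apply hne'
  refine eq_of_commute hz hs ?_ hcomm
  rcases Nat.even_or_odd m with ⟨k, hk⟩ | ⟨k, hk⟩
  · rw [hk, ← conj_pow_left hu hv k]
    exact hs.trans (isConj_iff.mpr ⟨((s * t) ^ k)⁻¹, by rw [inv_inv]⟩)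
  · refine ht.trans (isConj_iff.mpr ⟨((s * t) ^ k)⁻¹, ?_⟩)
    have hts : t = s * (s * t) := by rw [← mul_assoc, hu, one_mul]
    have h1 : ((s * t) ^ k)⁻¹ * t * (s * t) ^ k
        = (((s * t) ^ k)⁻¹ * s * (s * t) ^ k) * (s * t) := by
      nth_rw 2 [hts]
      rw [mul_assoc, mul_assoc (((s * t) ^ k)⁻¹ * s), ← pow_succ, pow_succ']
      simp [mul_assoc]
    rw [inv_inv, h1, conj_pow_left hu hv, mul_assoc, ← pow_succ,
      show k + k + 1 = m by omega]

/-- Two conjugates of an isolated involution whose product commutes with a third are equal. -/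
theorem eq_of_commute_mul {s t u : G} (hs : IsConj z s) (ht : IsConj z t) (hu : IsConj z u)
    (h : Commute (s * t) u) : s = t := by
  have hd := odd_orderOf_mul hz hs ht
  obtain ⟨k, hk⟩ := odd_orderOf_mul hz hs hu
  have hs2 := conj_mul_self hz hs
  have ht2 := conj_mul_self hz ht
  generalize hd' : s * t = d at hd h
  -- conjugation by `s` inverts `d`, conjugation by `u` fixes it
  have h1 : MulAut.conj s d = d⁻¹ := by
    rw [MulAut.conj_apply, inv_mul_self_eq hs2]
    have := conj_pow_eq hs2 ht2 1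
    rwa [pow_one, hd'] at this
  have h2 : MulAut.conj u d = d := by
    rw [MulAut.conj_apply, ← h.eq, mul_inv_cancel_right]
  have h3 : MulAut.conj (s * u) d = d⁻¹ := by rw [map_mul, MulAut.mul_apply, h2, h1]
  have h4 : ∀ i : ℕ, MulAut.conj ((s * u) ^ (i + i + 1)) d = d⁻¹ := by
    intro i
    induction i with
    | zero => simpa using h3
    | succ i ih =>
        rw [show i + 1 + (i + 1) + 1 = (1 + 1) + (i + i + 1) by omega, pow_add, map_mul,
          MulAut.mul_apply, ih, pow_add, map_mul, MulAut.mul_apply, pow_one, map_inv, h3, inv_inv,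
          h3]
  have h5 : d = d⁻¹ := by
    have := h4 k
    rwa [← two_mul, ← hk, pow_orderOf_eq_one, map_one, MulAut.one_apply] at this
  have h6 : s * t = 1 := hd'.trans (eq_one_of_eq_inv hd h5)
  rw [← inv_mul_self_eq ht2]
  exact eq_inv_of_mul_eq_one_left h6

/-- Distinct conjugates give distinct middles: the middle of `t` and `t'` is the only conjugate
exchanging them. -/
theorem middle_unique {t m m' : G} (ht : IsConj z t) (hm : IsConj z m) (hm' : IsConj z m')
    (h : m * t * m = m' * t * m') : m = m' := by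
  have h1 := conj_mul_self hz hm
  have h2 := conj_mul_self hz hm'
  symm
  refine eq_of_commute_mul hz hm' hm ht ?_
  show m' * m * t = t * (m' * m)
  calc m' * m * t = m' * (m * t * m) * m := by simp [mul_assoc, h1]
    _ = m' * (m' * t * m') * m := by rw [h]
    _ = t * (m' * m) := by simp [← mul_assoc, h2]

omit [Finite G] in
/-- An element inverted by `z`: the conjugate of `z` by it. -/
theorem conj_eq_sq_mul {k : G} (hk : z * k * z⁻¹ = k⁻¹) : k * z * k⁻¹ = k * k * z := by
  rw [← hk, inv_mul_self_eq (mul_self hz)]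
  simp [mul_assoc, ← mul_assoc z z, mul_self hz]

/-- Every conjugate `s` of `z` is `k z k⁻¹` for exactly one `k` of odd order inverted by `z`. -/
theorem existsUnique_conj_eq {s : G} (hs : IsConj z s) :
    ∃! k : G, (Odd (orderOf k) ∧ z * k * z⁻¹ = k⁻¹) ∧ k * z * k⁻¹ = s := by
  have hz2 := mul_self hz
  have hs2 := conj_mul_self hz hs
  have hodd : Odd (orderOf (s * z)) := odd_orderOf_mul hz hs (IsConj.refl z)
  have hinv : z * oddRoot (s * z) * z⁻¹ = (oddRoot (s * z))⁻¹ := by
    have h1 := conj_pow_eq hs2 hz2 ((orderOf (s * z) + 1) / 2)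
    rw [inv_mul_self_eq hz2]
    rw [oddRoot, ← h1]
    set r := (s * z) ^ ((orderOf (s * z) + 1) / 2)
    have hc : Commute (s * z) r := Commute.pow_right (Commute.refl _) _
    calc z * r * z = s * ((s * z) * r) * z := by simp [mul_assoc, ← mul_assoc s s, hs2]
      _ = s * (r * (s * z)) * z := by rw [hc.eq]
      _ = s * r * s := by simp [mul_assoc, hz2]
  refine ⟨oddRoot (s * z), ⟨⟨odd_orderOf_oddRoot hodd, hinv⟩, ?_⟩, ?_⟩
  · rw [conj_eq_sq_mul hz hinv, oddRoot_mul_self hodd, mul_assoc, hz2, mul_one]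
  · rintro k ⟨⟨hk, hki⟩, hks⟩
    refine sq_inj hk (odd_orderOf_oddRoot hodd) ?_
    rw [oddRoot_mul_self hodd, ← hks, conj_eq_sq_mul hz hki, mul_assoc (k * k), hz2, mul_one]

omit hz [Finite G] in
theorem mem_centralizer_iff_commute {x : G} :
    x ∈ Subgroup.centralizer ({z} : Set G) ↔ Commute x z := by
  rw [Subgroup.mem_centralizer_singleton_iff]
  rfl

omit [Finite G] in
/-- `k` and `g` lie in the same coset of the centralizer iff they conjugate `z` alike. -/
theorem inv_mul_mem_centralizer_iff {g k : G} :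
    g⁻¹ * k ∈ Subgroup.centralizer ({z} : Set G) ↔ k * z * k⁻¹ = g * z * g⁻¹ := by
  rw [mem_centralizer_iff_commute]
  constructor
  · intro h
    calc k * z * k⁻¹ = g * ((g⁻¹ * k) * z) * k⁻¹ := by group
      _ = g * (z * (g⁻¹ * k)) * k⁻¹ := by rw [h.eq]
      _ = g * z * g⁻¹ := by group
  · intro h
    show g⁻¹ * k * z = z * (g⁻¹ * k)
    calc g⁻¹ * k * z = g⁻¹ * (k * z * k⁻¹) * k := by group
      _ = g⁻¹ * (g * z * g⁻¹) * k := by rw [h]
      _ = z * (g⁻¹ * k) := by group

/-- The elements of odd order inverted by `z` represent the cosets of its centralizer. -/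
theorem existsUnique_coset_rep (g : G) :
    ∃! k : G, (Odd (orderOf k) ∧ z * k * z⁻¹ = k⁻¹) ∧
      g⁻¹ * k ∈ Subgroup.centralizer ({z} : Set G) := by
  obtain ⟨k, hk, huniq⟩ := existsUnique_conj_eq hz (isConj_iff.mpr ⟨g, rfl⟩ : IsConj z (g * z * g⁻¹))
  refine ⟨k, ⟨hk.1, (inv_mul_mem_centralizer_iff hz).mpr hk.2⟩, fun k' hk' => ?_⟩
  exact huniq k' ⟨hk'.1, (inv_mul_mem_centralizer_iff hz).mp hk'.2⟩

/-- If `H` contains `z` and a conjugate `s`, they are conjugate in `H`. -/
theorem exists_mem_conj_eq {H : Subgroup G} (hzH : z ∈ H) {s : G} (hs : IsConj z s)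
    (hsH : s ∈ H) : ∃ h ∈ H, h * z * h⁻¹ = s := by
  have hz2 := mul_self hz
  have hs2 := conj_mul_self hz hs
  refine ⟨middle z s, mul_mem hzH (pow_mem (mul_mem hzH hsH) _), ?_⟩
  rw [inv_mul_self_eq (middle_mul_self hz2 hs2),
    middle_conj hz2 hs2 (odd_orderOf_mul hz (IsConj.refl z) hs)]

/-- An isolated involution is central in every 2-subgroup containing it. -/
theorem commute_of_mem_pGroup {P : Subgroup G} (hP : IsPGroup 2 P) (hzP : z ∈ P) {x : G}
    (hx : x ∈ P) : Commute x z := by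
  have hs : IsConj z (x * z * x⁻¹) := isConj_iff.mpr ⟨x, rfl⟩
  have hsP : x * z * x⁻¹ ∈ P := mul_mem (mul_mem hx hzP) (inv_mem hx)
  have hodd := odd_orderOf_mul hz (IsConj.refl z) hs
  obtain ⟨k, hk⟩ := hP ⟨z * (x * z * x⁻¹), mul_mem hzP hsP⟩
  have hdvd : orderOf (z * (x * z * x⁻¹)) ∣ 2 ^ k :=
    orderOf_dvd_of_pow_eq_one (congrArg Subtype.val hk)
  have h1 : orderOf (z * (x * z * x⁻¹)) = 1 := by
    obtain ⟨i, -, hi⟩ := (Nat.dvd_prime_pow Nat.prime_two).mp hdvd
    rw [hi] at hodd ⊢
    rcases i with _ | i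
    · rfl
    · exfalso; rw [pow_succ, Nat.odd_mul] at hodd; exact absurd hodd.2 (by decide)
  rw [orderOf_eq_one_iff] at h1
  have h2 : z⁻¹ = x * z * x⁻¹ := inv_eq_of_mul_eq_one_right h1
  rw [inv_mul_self_eq (mul_self hz)] at h2
  show x * z = z * x
  nth_rw 2 [h2]
  group

/-- If `z` normalizes `H`, two elements of `C_H(z)` conjugate in `H` are conjugate in `C_H(z)`. -/
theorem exists_centralizing_conj {H : Subgroup G} (hzH : z ∈ Subgroup.normalizer (H : Set G))
    {x y h : G} (hh : h ∈ H) (hxz : Commute x z) (hyz : Commute y z) (hconj : h * x * h⁻¹ = y) :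
    ∃ c ∈ H, Commute c z ∧ c * x * c⁻¹ = y := by
  have hz2 := mul_self hz
  have hzi : z⁻¹ = z := inv_mul_self_eq hz2
  set u := h⁻¹ * z * h with hu
  have hcu : IsConj z u := isConj_iff.mpr ⟨h⁻¹, by rw [inv_inv]⟩
  have hu2 := conj_mul_self hz hcu
  have hodd : Odd (orderOf (u * z)) := odd_orderOf_mul hz hcu (IsConj.refl z)
  set e := oddRoot (u * z) with he
  have hzhz : z * h * z ∈ H := by
    have := (Subgroup.mem_normalizer_iff.mp hzH h).mp hh
    rwa [hzi] at this
  have heH : e ∈ H := by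
    refine pow_mem ?_ _
    rw [hu, mul_assoc, mul_assoc, ← mul_assoc z h z]
    exact mul_mem (inv_mem hh) hzhz
  have hux : Commute u x := by
    show h⁻¹ * z * h * x = x * (h⁻¹ * z * h)
    have h1 : y * h = h * x := by rw [← hconj]; group
    calc h⁻¹ * z * h * x = h⁻¹ * (z * y) * h := by rw [mul_assoc _ h x, ← h1]; group
      _ = h⁻¹ * (y * z) * h := by rw [hyz.eq]
      _ = x * (h⁻¹ * z * h) := by rw [← hconj]; group
  have hex : Commute e x := (hux.mul_left hxz.symm).pow_left _
  have he2 : e * e = u * z := oddRoot_mul_self hodd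
  have hze : z * e * z = e⁻¹ := by
    have h1 : u * e * u = e⁻¹ := conj_pow_eq hu2 hz2 _
    rw [← h1]
    have hc : Commute (u * z) e := Commute.pow_right (Commute.refl _) _
    calc z * e * z = u * ((u * z) * e) * z := by simp [mul_assoc, ← mul_assoc u u, hu2]
      _ = u * (e * (u * z)) * z := by rw [hc.eq]
      _ = u * e * u := by simp [mul_assoc, hz2]
  refine ⟨h * e, mul_mem hh heH, ?_, ?_⟩
  · show h * e * z = z * (h * e)
    calc h * e * z = h * e * (e * (z * e * z) * z) := by rw [hze, mul_inv_cancel, one_mul]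
      _ = h * (e * e) * z * e := by simp [mul_assoc, hz2]
      _ = z * (h * e) := by rw [he2, hu]; simp [mul_assoc, ← mul_assoc z z, hz2]
  · calc h * e * x * (h * e)⁻¹ = h * (e * x * e⁻¹) * h⁻¹ := by group
      _ = y := by rw [hex.eq, mul_inv_cancel_right, hconj]

theorem card_eq_card_centralizer_mul :
    Nat.card G = Nat.card (Subgroup.centralizer ({z} : Set G)) *
      Nat.card {k : G // Odd (orderOf k) ∧ z * k * z⁻¹ = k⁻¹} := by
  rw [← Subgroup.card_mul_index (Subgroup.centralizer ({z} : Set G)), Subgroup.index_eq_card]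
  congr 1
  refine (Nat.card_eq_of_bijective (fun k : {k : G // Odd (orderOf k) ∧ z * k * z⁻¹ = k⁻¹} =>
    (QuotientGroup.mk (k : G) : G ⧸ Subgroup.centralizer ({z} : Set G))) ⟨?_, ?_⟩).symm
  · intro k k' h
    obtain ⟨w, -, hw⟩ := existsUnique_coset_rep hz (k : G)
    have h1 := hw k ⟨k.2, by simp⟩
    have h2 := hw k' ⟨k'.2, QuotientGroup.eq.mp h⟩
    exact Subtype.ext (h1.trans h2.symm)
  · intro q
    induction q using QuotientGroup.induction_on with
    | _ g =>
      obtain ⟨k, hk, -⟩ := existsUnique_coset_rep hz g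
      exact ⟨⟨k, hk.1⟩, (QuotientGroup.eq.mpr hk.2).symm⟩

/-- The order formula for a second involution `s` commuting with `z`. -/
theorem card_odd_inverted_eq_mul (s : G) (hs : s * s = 1) (hsz : Commute s z) :
    Nat.card {k : G // Odd (orderOf k) ∧ z * k * z⁻¹ = k⁻¹} =
      Nat.card {k : G // Odd (orderOf k) ∧ z * k * z⁻¹ = k⁻¹ ∧ Commute k (s * z)} *
      Nat.card {k : G // Odd (orderOf k) ∧ z * k * z⁻¹ = k⁻¹ ∧ Commute k s} := by
  have hz2 := mul_self hz
  have hzi : z⁻¹ = z := inv_mul_self_eq hz2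
  have hsi : s⁻¹ = s := inv_mul_self_eq hs
  -- elements commuting with `s z` are inverted by `s`
  have hinvs : ∀ b : G, z * b * z⁻¹ = b⁻¹ → (Commute b (s * z) ↔ s * b * s = b⁻¹) := by
    intro b hb
    rw [hzi] at hb
    constructor
    · intro h
      calc s * b * s = s * (b * (s * z)) * z := by simp [mul_assoc, hz2]
        _ = s * ((s * z) * b) * z := by rw [h.eq]
        _ = b⁻¹ := by rw [← hb]; simp [← mul_assoc, hs]
    · intro h
      show b * (s * z) = s * z * b
      calc b * (s * z) = s * (s * b * s) * z := by simp [← mul_assoc, hs]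
        _ = s * (z * b * z) * z := by rw [h, hb]
        _ = s * z * b := by simp [mul_assoc, hz2]
  symm
  rw [← Nat.card_prod]
  let f : ({k : G // Odd (orderOf k) ∧ z * k * z⁻¹ = k⁻¹ ∧ Commute k (s * z)} ×
      {k : G // Odd (orderOf k) ∧ z * k * z⁻¹ = k⁻¹ ∧ Commute k s}) →
      {k : G // Odd (orderOf k) ∧ z * k * z⁻¹ = k⁻¹} := fun p =>
    ⟨(existsUnique_conj_eq hz (isConj_iff.mpr ⟨(p.2 : G) * p.1, rfl⟩)).choose,
      (existsUnique_conj_eq hz (isConj_iff.mpr ⟨(p.2 : G) * p.1, rfl⟩)).choose_spec.1.1⟩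
  have hf : ∀ p, (f p : G) * z * (f p : G)⁻¹ = (p.2 : G) * p.1 * z * ((p.2 : G) * p.1)⁻¹ :=
    fun p => (existsUnique_conj_eq hz (isConj_iff.mpr ⟨(p.2 : G) * p.1, rfl⟩)).choose_spec.1.2
  -- the conjugate `a z a⁻¹` is the middle of `t` and `s t s`
  have hmid : ∀ a b : G, z * b * z⁻¹ = b⁻¹ → Commute b (s * z) → Commute a s →
      (a * z * a⁻¹) * (a * b * z * (a * b)⁻¹) * (a * z * a⁻¹)
        = s * (a * b * z * (a * b)⁻¹) * s := by
    intro a b hb hbs has
    have h1 := (hinvs b hb).mp hbs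
    rw [hzi] at hb
    have ha' : s * a * s = a := by rw [← has.eq, mul_assoc, hs, mul_one]
    have hz' : s * z * s = z := by rw [hsz.eq, mul_assoc, hs, mul_one]
    have ha'' : s * a⁻¹ * s = a⁻¹ := by
      rw [← has.inv_left.eq, mul_assoc, hs, mul_one]
    have hb' : s * b⁻¹ * s = b := by
      rw [← h1]
      simp [mul_assoc, hs, ← mul_assoc s s]
    have hzb : z * b⁻¹ * z = b := by
      rw [← hb]
      simp [mul_assoc, hz2, ← mul_assoc z z]
    calc (a * z * a⁻¹) * (a * b * z * (a * b)⁻¹) * (a * z * a⁻¹)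
        = a * (z * b * z) * z * (z * b⁻¹ * z) * a⁻¹ := by
          simp [mul_assoc, ← mul_assoc z z, hz2]
      _ = (s * a * s) * (s * b * s) * (s * z * s) * (s * b⁻¹ * s) * (s * a⁻¹ * s) := by
          rw [ha', hz', ha'', h1, hb', hb, hzb]
      _ = s * (a * b * z * (a * b)⁻¹) * s := by
          simp [mul_assoc, ← mul_assoc s s, hs]
  refine Nat.card_eq_of_bijective f ⟨?_, ?_⟩
  · rintro ⟨b, a⟩ ⟨b', a'⟩ h
    have ht : (a : G) * b * z * ((a : G) * b)⁻¹ = (a' : G) * b' * z * ((a' : G) * b')⁻¹ :=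
      (hf ⟨b, a⟩).symm.trans ((congrArg (fun k : {k : G // _} => (k : G) * z * (k : G)⁻¹) h).trans
        (hf ⟨b', a'⟩))
    have hm : (a : G) * z * (a : G)⁻¹ = (a' : G) * z * (a' : G)⁻¹ := by
      refine middle_unique hz (isConj_iff.mpr ⟨(a : G) * b, rfl⟩) (isConj_iff.mpr ⟨a, rfl⟩)
        (isConj_iff.mpr ⟨a', rfl⟩) ?_
      rw [hmid a b b.2.2.1 b.2.2.2 a.2.2.2]
      nth_rw 2 [ht]
      rw [hmid a' b' b'.2.2.1 b'.2.2.2 a'.2.2.2, ht]
    obtain ⟨w, -, hw⟩ := existsUnique_conj_eq hz (isConj_iff.mpr ⟨(a : G), rfl⟩ : IsConj z _)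
    have ha : (a : G) = a' :=
      (hw a ⟨⟨a.2.1, a.2.2.1⟩, rfl⟩).trans (hw a' ⟨⟨a'.2.1, a'.2.2.1⟩, hm.symm⟩).symm
    rw [← ha] at ht
    have hb : (b : G) * z * (b : G)⁻¹ = (b' : G) * z * (b' : G)⁻¹ := by
      have := congrArg (fun t => (a : G)⁻¹ * t * a) ht
      simpa [mul_assoc] using this
    obtain ⟨v, -, hv⟩ := existsUnique_conj_eq hz (isConj_iff.mpr ⟨(b : G), rfl⟩ : IsConj z _)
    have hb' : (b : G) = b' :=
      (hv b ⟨⟨b.2.1, b.2.2.1⟩, rfl⟩).trans (hv b' ⟨⟨b'.2.1, b'.2.2.1⟩, hb.symm⟩).symm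
    exact Prod.ext (Subtype.ext hb') (Subtype.ext ha)
  · rintro ⟨k, hk⟩
    set t := k * z * k⁻¹ with ht
    have hct : IsConj z t := isConj_iff.mpr ⟨k, rfl⟩
    have hct' : IsConj z (s * t * s) := hct.trans (isConj_conj hs)
    have ht2 := conj_mul_self hz hct
    have ht'2 := conj_mul_self hz hct'
    have hodd := odd_orderOf_mul hz hct hct'
    set m := middle t (s * t * s) with hm
    have hcm : IsConj z m := hct.trans (isConj_middle ht2 ht'2 hodd)
    have hm2 := conj_mul_self hz hcm
    have hmt : m * t * m = s * t * s := middle_conj ht2 ht'2 hodd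
    have hsm : s * m * s = m := by
      refine middle_unique hz hct (hcm.trans (isConj_conj hs)) hcm ?_
      have h1 : m * (s * t * s) * m = t := by
        rw [← hmt]; simp [mul_assoc, hm2, ← mul_assoc m m]
      calc s * m * s * t * (s * m * s) = s * (m * (s * t * s) * m) * s := by simp [mul_assoc]
        _ = m * t * m := by rw [h1, hmt]
    obtain ⟨a, ⟨⟨haodd, hainv⟩, ham⟩, hauniq⟩ := existsUnique_conj_eq hz hcm
    have hs' : ∀ x : G, s * x * s = MulAut.conj s x := fun x => by rw [MulAut.conj_apply, hsi]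
    have hsz' : s * z * s = z := by rw [hsz.eq, mul_assoc, hs, mul_one]
    have hzfix : MulAut.conj s z = z := by rw [← hs' z, hsz']
    have has : Commute a s := by
      have h1 : s * a * s = a := by
        refine hauniq _ ⟨⟨?_, ?_⟩, ?_⟩
        · rwa [hs', MulEquiv.orderOf_eq]
        · have := congrArg (MulAut.conj s) hainv
          rwa [map_mul, map_mul, map_inv, map_inv, hzfix, ← hs' a] at this
        · have := congrArg (MulAut.conj s) ham
          rwa [map_mul, map_mul, map_inv, hzfix, ← hs' a, ← hs' m, hsm] at this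
      show a * s = s * a
      conv_lhs => rw [← h1]
      rw [mul_assoc, hs, mul_one]
    set t₁ := a⁻¹ * t * a with ht1
    have hct1 : IsConj z t₁ := hct.trans (isConj_iff.mpr ⟨a⁻¹, by rw [inv_inv]⟩)
    obtain ⟨b, ⟨⟨hbodd, hbinv⟩, hbt⟩, hbuniq⟩ := existsUnique_conj_eq hz hct1
    have hst1 : s * t₁ * s = z * t₁ * z := by
      calc s * t₁ * s = (s * a⁻¹ * s) * (s * t * s) * (s * a * s) := by
            rw [ht1]; simp [mul_assoc, ← mul_assoc s s, hs]
        _ = a⁻¹ * (m * t * m) * a := by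
            rw [hmt, ← has.inv_left.eq, ← has.eq, mul_assoc a⁻¹ s s, mul_assoc a s s, hs, mul_one,
              mul_one]
        _ = z * t₁ * z := by rw [← ham, ht1]; group
    have hbs : s * b * s = b⁻¹ := by
      refine sq_inj ?_ (by simpa using hbodd) ?_
      · rwa [hs', MulEquiv.orderOf_eq]
      have hbb : b * b = t₁ * z := by
        rw [← hbt, conj_eq_sq_mul hz hbinv, mul_assoc (b * b), hz2, mul_one]
      calc s * b * s * (s * b * s) = (s * t₁ * s) * (s * z * s) := by
            simp [mul_assoc, ← mul_assoc s s, hs, ← mul_assoc b b, hbb]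
        _ = (t₁ * z)⁻¹ := by
            rw [hst1, hsz', mul_inv_rev, hzi, inv_mul_self_eq (conj_mul_self hz hct1)]
            simp [mul_assoc, hz2]
        _ = b⁻¹ * b⁻¹ := by rw [← hbb, mul_inv_rev]
    refine ⟨⟨⟨b, hbodd, hbinv, (hinvs b hbinv).mpr hbs⟩, ⟨a, haodd, hainv, has⟩⟩, Subtype.ext ?_⟩
    obtain ⟨w, -, hw⟩ := existsUnique_conj_eq hz hct
    refine (hw _ ⟨(f _).2, ?_⟩).trans (hw k ⟨hk, rfl⟩).symm
    rw [hf]
    show a * b * z * (a * b)⁻¹ = t
    calc a * b * z * (a * b)⁻¹ = a * (b * z * b⁻¹) * a⁻¹ := by group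
      _ = t := by rw [hbt, ht1]; group

end

end Cfsg.Agent.Involution.Isolated
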