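import Cfsg.Agent.Lib.Involution.Dihedral
import Mathlib.GroupTheory.Subgroup.Centralizer
import Mathlib.GroupTheory.GroupAction.Quotient
import Mathlib.Data.Fintype.Perm
import Mathlib.GroupTheory.Subgroup.Simple
import Mathlib.GroupTheory.GroupAction.ConjAct
import Mathlib.GroupTheory.IndexNormal

/-!
The Brauer–Fowler counting argument.
-/

set_option autoImplicit false

namespace Cfsg.Agent.Involution

variable {G : Type*} [Group G] [Finite G]

omit [Finite G] in
theorem card_conjugates (t : G) :
    Nat.card {u : G // IsConj t u} = (Subgroup.centralizer ({t} : Set G)).index := by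
  have h : MulAction.orbit (ConjAct G) t = {u : G | IsConj t u} := by
    ext u
    rw [ConjAct.mem_orbit_conjAct]
    exact isConj_comm
  have h2 := MulAction.index_stabilizer (ConjAct G) t
  rw [h] at h2
  rw [show Nat.card {u : G // IsConj t u} = ({u : G | IsConj t u}).ncard from Nat.card_coe_set_eq _,
    ← h2, Subgroup.centralizer_eq_comap_stabilizer]
  exact (Subgroup.index_comap_of_surjective _ ConjAct.toConjAct.surjective).symm

/-- Elements inverting a given `g` lie in one coset of the centralizer of `g`. -/
theorem card_inverting_le (g : G) :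
    Nat.card {u : G // u * g * u⁻¹ = g⁻¹} ≤ Nat.card (Subgroup.centralizer ({g} : Set G)) := by
  rcases isEmpty_or_nonempty {u : G // u * g * u⁻¹ = g⁻¹} with h | ⟨⟨u₀, h₀⟩⟩
  · simp
  refine Nat.card_le_card_of_injective (fun u => ⟨u₀⁻¹ * u.1, ?_⟩) ?_
  · rw [Subgroup.mem_centralizer_singleton_iff]
    calc u₀⁻¹ * u.1 * g = u₀⁻¹ * (u.1 * g * u.1⁻¹) * u.1 := by group
      _ = u₀⁻¹ * (u₀ * g * u₀⁻¹) * u.1 := by rw [u.2, h₀]
      _ = g * (u₀⁻¹ * u.1) := by group
  · intro u v huv
    exact Subtype.ext (mul_left_cancel (congrArg Subtype.val huv))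

/-- Counting form: an involution `t` with class of size more than 2 forces an element `g ≠ 1`
whose centralizer has index at most `2 |C(t)|²`. -/
theorem brauer_fowler {t : G} (ht : orderOf t = 2)
    (hbig : 2 < (Subgroup.centralizer ({t} : Set G)).index) :
    ∃ g : G, g ≠ 1 ∧ (Subgroup.centralizer ({g} : Set G)).index ≤
      2 * (Nat.card (Subgroup.centralizer ({t} : Set G))) ^ 2 := by
  classical
  haveI := Fintype.ofFinite G
  by_contra hcon
  push Not at hcon
  let I := {u : G // IsConj t u}
  let n := Nat.card (Subgroup.centralizer ({t} : Set G))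
  let m := (Subgroup.centralizer ({t} : Set G)).index
  have hI : Nat.card I = m := card_conjugates t
  have hG : n * m = Nat.card G := Subgroup.card_mul_index _
  have hinvol : ∀ u : I, u.1 * u.1 = 1 := by
    intro u
    obtain ⟨c, hc⟩ := isConj_iff.mp u.2
    rw [← hc]
    calc c * t * c⁻¹ * (c * t * c⁻¹) = c * (t * t) * c⁻¹ := by group
      _ = 1 := by rw [sq_of_orderOf_two ht]; group
  let T := I ⊕ (Σ g : {g : G // g ≠ 1}, {u : G // u * g * u⁻¹ = (g : G)⁻¹})
  let f : I × I → T := fun p =>
    if h : p.1.1 * p.2.1 = 1 then Sum.inl p.1 else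
      Sum.inr ⟨⟨p.1.1 * p.2.1, h⟩, ⟨p.1.1, invol_conj_mul (hinvol p.1) (hinvol p.2)⟩⟩
  have hf : Function.Injective f := by
    rintro ⟨u, v⟩ ⟨u', v'⟩ h
    simp only [f] at h
    by_cases h1 : u.1 * v.1 = 1 <;> by_cases h2 : u'.1 * v'.1 = 1 <;>
      simp only [dif_pos, dif_neg, h1, h2, not_false_eq_true, reduceCtorEq] at h
    · obtain rfl := Sum.inl.inj h
      exact Prod.ext rfl (Subtype.ext (mul_left_cancel (h1.trans h2.symm)))
    · have hs := Sum.inr.inj h
      have hg : u.1 * v.1 = u'.1 * v'.1 := congrArg (fun s => (Sigma.fst s).1) hs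
      have huu : u.1 = u'.1 := congrArg (fun s => (Sigma.snd s).1) hs
      refine Prod.ext (Subtype.ext huu) (Subtype.ext ?_)
      rw [huu] at hg
      exact mul_left_cancel hg
  have hle := Nat.card_le_card_of_injective f hf
  rw [Nat.card_prod, hI, Nat.card_sum, hI, Nat.card_sigma] at hle
  have hsum : 2 * n ^ 2 * (∑ g : {g : G // g ≠ 1}, Nat.card {u : G // u * g * u⁻¹ = (g : G)⁻¹}) ≤
      Nat.card G * Nat.card G := by
    rw [Finset.mul_sum]
    calc _ ≤ ∑ _g : {g : G // g ≠ 1}, Nat.card G := by
          refine Finset.sum_le_sum fun g _ => ?_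
          have h1 := card_inverting_le g.1
          have h2 := hcon g.1 g.2
          have h3 := Subgroup.card_mul_index (Subgroup.centralizer ({g.1} : Set G))
          calc 2 * n ^ 2 * Nat.card {u : G // u * g * u⁻¹ = (g : G)⁻¹}
              ≤ (Subgroup.centralizer ({g.1} : Set G)).index *
                  Nat.card (Subgroup.centralizer ({g.1} : Set G)) := Nat.mul_le_mul h2.le h1
            _ = Nat.card G := by rw [mul_comm, h3]
      _ ≤ Nat.card G * Nat.card G := by
          rw [Finset.sum_const, smul_eq_mul, Finset.card_univ]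
          refine Nat.mul_le_mul_right _ ?_
          rw [← Nat.card_eq_fintype_card]
          exact Nat.card_le_card_of_injective _ Subtype.val_injective
  have h4 : 2 * n ^ 2 * (m * m) ≤ 2 * n ^ 2 * m + Nat.card G * Nat.card G :=
    (Nat.mul_le_mul_left _ hle).trans (by rw [mul_add]; exact Nat.add_le_add_left hsum _)
  have hn : 0 < n := Nat.card_pos
  rw [← hG] at h4
  have h5 : n ^ 2 * (m * m) ≤ n ^ 2 * (2 * m) := by nlinarith
  have h6 := Nat.le_of_mul_le_mul_left h5 (by positivity)
  have h7 : m ≤ 2 := Nat.le_of_mul_le_mul_right h6 (by omega)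
  omega

/-- A simple group with an involution whose centralizer has order `n` has order at most `(2n²)!`. -/
theorem brauer_fowler_simple [IsSimpleGroup G] {t : G} (ht : orderOf t = 2) :
    Nat.card G ≤ Nat.factorial (2 * (Nat.card (Subgroup.centralizer ({t} : Set G))) ^ 2) := by
  classical
  set n := Nat.card (Subgroup.centralizer ({t} : Set G)) with hn
  -- a central nontrivial element makes the group abelian
  have hab : ∀ g : G, g ≠ 1 → Subgroup.centralizer ({g} : Set G) = ⊤ →
      Nat.card G ≤ Nat.factorial (2 * n ^ 2) := by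
    intro g hg htop
    have hmem : g ∈ Subgroup.center G := by
      rw [Subgroup.centralizer_eq_top_iff_subset] at htop
      exact htop rfl
    rcases (Subgroup.center G).normal_of_characteristic.eq_bot_or_eq_top with h | h
    · exact absurd (by rwa [h] at hmem) hg
    have hCt : Subgroup.centralizer ({t} : Set G) = ⊤ := by
      rw [Subgroup.centralizer_eq_top_iff_subset, h]
      exact fun x _ => Subgroup.mem_top x
    rw [hn, hCt, Subgroup.card_top]
    exact (Nat.le_mul_of_pos_left _ (by norm_num)).trans
      (le_trans (Nat.mul_le_mul_left 2 (Nat.le_self_pow two_ne_zero _)) (Nat.self_le_factorial _))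
  by_cases hbig : 2 < (Subgroup.centralizer ({t} : Set G)).index
  · obtain ⟨g, hg, hle⟩ := brauer_fowler ht hbig
    by_cases htop : Subgroup.centralizer ({g} : Set G) = ⊤
    · exact hab g hg htop
    set H := Subgroup.centralizer ({g} : Set G)
    have hinj : Function.Injective (MulAction.toPermHom G (G ⧸ H)) := by
      rw [← MonoidHom.ker_eq_bot_iff, ← Subgroup.normalCore_eq_ker]
      rcases H.normalCore_normal.eq_bot_or_eq_top with h | h
      · exact h
      · exact absurd (top_le_iff.mp (h ▸ H.normalCore_le)) htop
    haveI := Fintype.ofFinite (G ⧸ H)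
    refine (Nat.card_le_card_of_injective _ hinj).trans ?_
    rw [Nat.card_eq_fintype_card, Fintype.card_perm, ← Nat.card_eq_fintype_card]
    exact Nat.factorial_le hle
  · refine hab t (fun h => by simp [h] at ht) ?_
    have hnor : (Subgroup.centralizer ({t} : Set G)).Normal := by
      rcases Nat.lt_or_eq_of_le (not_lt.mp hbig) with h | h
      · have h0 : (Subgroup.centralizer ({t} : Set G)).index ≠ 0 := Subgroup.index_ne_zero_of_finite
        have := Subgroup.index_eq_one.mp (by omega : (Subgroup.centralizer ({t} : Set G)).index = 1)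
        rw [this]; infer_instance
      · exact Subgroup.normal_of_index_eq_two h
    rcases hnor.eq_bot_or_eq_top with h | h
    · have : t ∈ Subgroup.centralizer ({t} : Set G) := Subgroup.mem_centralizer_singleton_iff.mpr rfl
      rw [h, Subgroup.mem_bot] at this
      simp [this] at ht
    · exact h

end Cfsg.Agent.Involution
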