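import Cfsg.Agent.Lib.Involution.ElemCentralizer

/-!
# All involution centralizers elementary abelian 2-groups: triple transitivity

With `H = N(T)`, the Sylow 2-subgroup `T` is regular on the cosets of `H` other than `H`, the group is triply
transitive on the cosets and only the identity fixes three of them.
-/

set_option linter.style.haveILetI false
set_option linter.unusedSectionVars false

namespace Cfsg.Agent.Involution.ElemCentralizer

open Cfsg.Agent.Involution.StrongEmb (orderOf_conj' mul_self_of_orderOf inv_eq_of_orderOf)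

variable {G : Type*} [Group G] [Finite G] (T : Sylow 2 G) (hnc : ¬ IsCyclic (T : Subgroup G))
  (hC : Hyp G) (hnn : ¬ (T : Subgroup G).Normal)

local notation "X" => G ⧸ Subgroup.normalizer ((T : Subgroup G) : Set G)

include hnc hC hnn

theorem eq_of_smul_eq {t t' g : G} (ht : t ∈ (T : Subgroup G)) (ht' : t' ∈ (T : Subgroup G))
    (hg : g ∉ Subgroup.normalizer ((T : Subgroup G) : Set G))
    (h : t • (g : X) = t' • (g : X)) : t = t' := by
  rw [MulAction.Quotient.smul_coe, MulAction.Quotient.smul_coe, smul_eq_mul, smul_eq_mul,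
    QuotientGroup.eq] at h
  by_contra hne
  set s := t⁻¹ * t' with hs
  have hsT : s ∈ (T : Subgroup G) := mul_mem (inv_mem ht) ht'
  have hs1 : s ≠ 1 := fun h1 => hne (inv_mul_eq_one.mp h1)
  have hmem : g⁻¹ * s * g ∈ Subgroup.normalizer ((T : Subgroup G) : Set G) := by
    have e : g⁻¹ * s * g = (t * g)⁻¹ * (t' * g) := by rw [hs]; group
    rwa [e]
  have ho : orderOf (g⁻¹ * s * g) = 2 := by
    have := orderOf_conj' g⁻¹ s
    rw [inv_inv] at this
    rw [this, orderOf_of_mem T hnc hC hsT hs1]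
  refine hg (inv_mem_iff.mp (mem_normalizer_of_conj_mem T hnc hC hsT hs1 ?_))
  rw [inv_inv]
  exact mem_of_involution T hnc hC ho hmem

variable {u : G} (hu : orderOf u = 2) (huH : u ∉ Subgroup.normalizer ((T : Subgroup G) : Set G))
include hu huH

theorem twoPoint_comm {a b : G} (ha : a ∈ twoPoint T u) (hb : b ∈ twoPoint T u) : Commute a b := by
  have hinv := (card_D_and_inverts T hnc hC hnn hu huH).2
  have h1 := hinv _ ((twoPoint T u).mul_mem hb ha)
  have h2 : u * (b * a) * u⁻¹ = (u * b * u⁻¹) * (u * a * u⁻¹) := by group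
  rw [h2, hinv _ hb, hinv _ ha, ← mul_inv_rev] at h1
  exact inv_injective h1

theorem exists_smul_eq_of_ne {x : X} (hx : x ≠ ((1 : G) : X)) :
    ∃ t ∈ (T : Subgroup G), t • (u : X) = x := by
  induction x using QuotientGroup.induction_on with
  | _ g =>
  set H := Subgroup.normalizer ((T : Subgroup G) : Set G) with hHdef
  have hg : g ∉ H := fun h => hx (QuotientGroup.eq.mpr (by simpa using h))
  have hH := isStronglyEmbedded T hnc hC hnn
  obtain ⟨s, hs, hs2⟩ := StrongEmb.exists_involution hH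
  haveI : Nonempty {t : G // orderOf t = 2 ∧ t ∈ H} := ⟨⟨s, hs2, hs⟩⟩
  have hpos : 0 < Nat.card {i : G // orderOf i = 2 ∧ i • ((1 : G) : G ⧸ H) = (g : G ⧸ H)} := by
    rw [StrongEmb.card_swap hH _ _ (fun h => hx h.symm)]; exact Nat.card_pos
  obtain ⟨⟨v, hv2, hv⟩⟩ := (Nat.card_pos_iff.mp hpos).1
  rw [StrongEmb.smul_one_eq_iff] at hv
  have hvH : v ∉ H := fun h => hg (inv_mem_iff.mp (by
    have := H.mul_mem hv (H.inv_mem h); rwa [mul_inv_cancel_right] at this))
  obtain ⟨d, hd, hd1, -⟩ := exists_ne_one_D T hnc hC hnn hu huH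
  have hdH := ((mem_D_iff T).mp hd).1
  obtain ⟨e, he, heT⟩ := exists_D_mul_mem T hnc hC hnn hv2 hvH hdH
  have hcomm1 : ∀ c ∈ (T : Subgroup G), Commute c d → c = 1 := by
    intro c hc hcd
    by_contra hc1
    exact hd1 (eq_one_of_mem_D_of_mem T hnc hC hnn hu huH hd
      (mem_of_commute T hnc hC hc hc1 hcd.symm))
  have hnorm : ∀ c ∈ (T : Subgroup G), d⁻¹ * c * d ∈ (T : Subgroup G) := fun c hc => by
    simpa using (Subgroup.mem_normalizer_iff.mp (inv_mem hdH) c).mp hc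
  let f : ↥(T : Subgroup G) → ↥(T : Subgroup G) := fun c =>
    ⟨d⁻¹ * c.1 * d * c.1⁻¹, mul_mem (hnorm _ c.2) (inv_mem c.2)⟩
  have hinj : Function.Injective f := by
    intro a b hab
    have h1 : d⁻¹ * a.1 * d * a.1⁻¹ = d⁻¹ * b.1 * d * b.1⁻¹ := congrArg Subtype.val hab
    have h2 : Commute (b.1⁻¹ * a.1) d := by
      show b.1⁻¹ * a.1 * d = d * (b.1⁻¹ * a.1)
      calc b.1⁻¹ * a.1 * d = b.1⁻¹ * d * (d⁻¹ * a.1 * d * a.1⁻¹) * a.1 := by group
        _ = d * (b.1⁻¹ * a.1) := by rw [h1]; group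
    exact Subtype.ext (inv_mul_eq_one.mp (hcomm1 _ (mul_mem (inv_mem b.2) a.2) h2)).symm
  obtain ⟨⟨t, htT⟩, ht⟩ := Finite.surjective_of_injective hinj
    ⟨d⁻¹ * e, by
      have h1 : d⁻¹ * e = (e⁻¹ * d)⁻¹ := by group
      rw [h1]; exact inv_mem heT⟩
  have hte : t * d * t⁻¹ = e := by
    have h1 : d⁻¹ * t * d * t⁻¹ = d⁻¹ * e := congrArg Subtype.val ht
    calc t * d * t⁻¹ = d * (d⁻¹ * t * d * t⁻¹) := by group
      _ = e := by rw [h1]; group
  have htH : t ∈ H := Subgroup.le_normalizer htT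
  -- `D_v` is carried into `D_u` by `t`
  have key : ∀ y ∈ twoPoint T v, t⁻¹ * y * t ∈ twoPoint T u := by
    intro y hy
    have hyH := ((mem_D_iff T).mp hy).1
    set z := t⁻¹ * y * t with hz
    have hzH : z ∈ H := H.mul_mem (H.mul_mem (H.inv_mem htH) hyH) htH
    have hzd : Commute z d := by
      have h1 := twoPoint_comm T hnc hC hnn hv2 hvH hy he
      show z * d = d * z
      calc z * d = t⁻¹ * (y * (t * d * t⁻¹)) * t := by rw [hz]; group
        _ = t⁻¹ * ((t * d * t⁻¹) * y) * t := by rw [hte, h1.eq]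
        _ = d * z := by rw [hz]; group
    obtain ⟨d', hd', hd'T⟩ := exists_D_mul_mem T hnc hC hnn hu huH hzH
    have hd'd := twoPoint_comm T hnc hC hnn hu huH hd' hd
    have h2 : d'⁻¹ * z = 1 := hcomm1 _ hd'T (Commute.mul_left hd'd.inv_left hzd)
    rw [← inv_mul_eq_one.mp h2]
    exact hd'
  refine ⟨t, htT, ?_⟩
  rw [MulAction.Quotient.smul_coe, smul_eq_mul, QuotientGroup.eq]
  rcases fixed_cosets T hnc hC hnn hv2 hvH (g := t * u) (fun y hy => by
      have h1 : (t * u)⁻¹ * y * (t * u) = u⁻¹ * (t⁻¹ * y * t) * u := by group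
      rw [h1]
      exact ((mem_D_iff T).mp (key y hy)).2) with h | h
  · exact absurd (by simpa using H.mul_mem (H.inv_mem htH) h) huH
  · have h1 : (t * u)⁻¹ * g = (v⁻¹ * (t * u))⁻¹ * (g⁻¹ * v)⁻¹ := by group
    rw [h1]
    exact H.mul_mem (H.inv_mem h) (H.inv_mem hv)

omit hu huH in
theorem smul_base_of_mem {t : G} (ht : t ∈ Subgroup.normalizer ((T : Subgroup G) : Set G)) :
    t • ((1 : G) : X) = ((1 : G) : X) := by
  rw [MulAction.Quotient.smul_coe, smul_eq_mul, mul_one, QuotientGroup.eq]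
  simpa using inv_mem ht

theorem coe_ne_base : ((u : G) : X) ≠ ((1 : G) : X) := fun h => huH (by
  simpa using inv_mem (QuotientGroup.eq.mp h))

theorem card_quotient : Nat.card X = Nat.card (T : Subgroup G) + 1 := by
  let f : Option (T : Subgroup G) → X := fun o => o.elim ((1 : G) : X) fun t => (t : G) • (u : X)
  have hne : ∀ t : (T : Subgroup G), (t : G) • (u : X) ≠ ((1 : G) : X) := fun t h => by
    apply coe_ne_base T hnc hC hnn hu huH
    have h1 := congrArg ((t : G)⁻¹ • ·) h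
    simp only [inv_smul_smul] at h1
    rw [h1]
    exact smul_base_of_mem T hnc hC hnn (inv_mem (Subgroup.le_normalizer t.2))
  have hbij : Function.Bijective f := by
    refine ⟨fun a b h => ?_, fun x => ?_⟩
    · rcases a with _ | a <;> rcases b with _ | b
      · rfl
      · exact absurd h.symm (hne b)
      · exact absurd h (hne a)
      · exact congrArg some (Subtype.ext (eq_of_smul_eq T hnc hC hnn a.2 b.2 huH h))
    · by_cases hx : x = ((1 : G) : X)
      · exact ⟨none, hx.symm⟩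
      · obtain ⟨t, ht, h⟩ := exists_smul_eq_of_ne T hnc hC hnn hu huH hx
        exact ⟨some ⟨t, ht⟩, h⟩
  rw [← Nat.card_eq_of_bijective f hbij, Finite.card_option]

omit hu huH in
/-- `T` is regular on the cosets other than `N(T)`. -/
theorem existsUnique_smul {x y : X} (hx : x ≠ ((1 : G) : X)) (hy : y ≠ ((1 : G) : X)) :
    ∃! t : G, t ∈ (T : Subgroup G) ∧ t • x = y := by
  obtain ⟨u, huH, hu⟩ := StrongEmb.exists_involution_not_mem (isStronglyEmbedded T hnc hC hnn)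
  obtain ⟨a, ha, rfl⟩ := exists_smul_eq_of_ne T hnc hC hnn hu huH hx
  obtain ⟨b, hb, rfl⟩ := exists_smul_eq_of_ne T hnc hC hnn hu huH hy
  refine ⟨b * a⁻¹, ⟨mul_mem hb (inv_mem ha), by rw [smul_smul, inv_mul_cancel_right]⟩, ?_⟩
  rintro t ⟨ht, h⟩
  rw [smul_smul] at h
  rw [← eq_of_smul_eq T hnc hC hnn (mul_mem ht ha) hb huH h, mul_inv_cancel_right]

theorem exists_std {t₀ : G} (ht₀ : t₀ ∈ (T : Subgroup G)) (ht₀1 : t₀ ≠ 1) {x₁ x₂ x₃ : X}
    (h12 : x₁ ≠ x₂) (h13 : x₁ ≠ x₃) (h23 : x₂ ≠ x₃) :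
    ∃ g : G, g • ((1 : G) : X) = x₁ ∧ g • (u : X) = x₂ ∧ g • (t₀ • (u : X)) = x₃ := by
  induction x₁ using QuotientGroup.induction_on with
  | _ g₁ =>
  have hb1 : g₁ • ((1 : G) : X) = (g₁ : X) := by
    rw [MulAction.Quotient.smul_coe, smul_eq_mul, mul_one]
  have hne2 : g₁⁻¹ • x₂ ≠ ((1 : G) : X) := fun h => h12 (by
    rw [← hb1, ← h, smul_inv_smul])
  obtain ⟨t, ht, htx⟩ := exists_smul_eq_of_ne T hnc hC hnn hu huH hne2
  set g₂ := g₁ * t with hg₂
  have h21 : g₂ • ((1 : G) : X) = (g₁ : X) := by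
    rw [hg₂, mul_smul, smul_base_of_mem T hnc hC hnn (Subgroup.le_normalizer ht), hb1]
  have h22 : g₂ • (u : X) = x₂ := by rw [hg₂, mul_smul, htx, smul_inv_smul]
  have hne3 : g₂⁻¹ • x₃ ≠ ((1 : G) : X) := fun h => h13 (by
    rw [← h21, ← h, smul_inv_smul])
  obtain ⟨s, hs, hsx⟩ := exists_smul_eq_of_ne T hnc hC hnn hu huH hne3
  have hs1 : s ≠ 1 := fun h => h23 (by rw [← h22, ← smul_inv_smul g₂ x₃, ← hsx, h, one_smul])
  obtain ⟨d, hd, hds⟩ := StrongEmb.exists_mem_inter_conj (isStronglyEmbedded T hnc hC hnn) huH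
    (orderOf_of_mem T hnc hC ht₀ ht₀1) (Subgroup.le_normalizer ht₀)
    (orderOf_of_mem T hnc hC hs hs1) (Subgroup.le_normalizer hs)
  obtain ⟨hdH, hdu⟩ := (mem_D_iff T).mp hd
  have hdb : d • (u : X) = (u : X) := by
    rw [MulAction.Quotient.smul_coe, smul_eq_mul, eq_comm, QuotientGroup.eq, ← mul_assoc]
    exact hdu
  refine ⟨g₂ * d, by rw [mul_smul, smul_base_of_mem T hnc hC hnn hdH, h21],
    by rw [mul_smul, hdb, h22], ?_⟩
  have h3 : d • (t₀ • (u : X)) = g₂⁻¹ • x₃ := by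
    have : d * t₀ = s * d := by rw [← hds, inv_mul_cancel_right]
    rw [smul_smul, this, mul_smul, hdb, hsx]
  rw [mul_smul, h3, smul_inv_smul]

omit hu huH in
/-- `G` is triply transitive on the cosets of `N(T)`. -/
theorem exists_smul_three {x₁ x₂ x₃ y₁ y₂ y₃ : X} (h12 : x₁ ≠ x₂) (h13 : x₁ ≠ x₃) (h23 : x₂ ≠ x₃)
    (k12 : y₁ ≠ y₂) (k13 : y₁ ≠ y₃) (k23 : y₂ ≠ y₃) :
    ∃ g : G, g • x₁ = y₁ ∧ g • x₂ = y₂ ∧ g • x₃ = y₃ := by
  obtain ⟨u, huH, hu⟩ := StrongEmb.exists_involution_not_mem (isStronglyEmbedded T hnc hC hnn)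
  haveI : Nontrivial (T : Subgroup G) :=
    Finite.one_lt_card_iff_nontrivial.mp (one_lt_card T hnc)
  obtain ⟨⟨t, htT⟩, ht1⟩ := exists_ne (1 : (T : Subgroup G))
  have ht1' : t ≠ 1 := fun h => ht1 (Subtype.ext h)
  obtain ⟨a, a1, a2, a3⟩ := exists_std T hnc hC hnn hu huH htT ht1' h12 h13 h23
  obtain ⟨b, b1, b2, b3⟩ := exists_std T hnc hC hnn hu huH htT ht1' k12 k13 k23
  refine ⟨b * a⁻¹, ?_, ?_, ?_⟩
  · rw [← a1, mul_smul, inv_smul_smul, b1]
  · rw [← a2, mul_smul, inv_smul_smul, b2]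
  · rw [← a3, mul_smul, inv_smul_smul, b3]

omit hu huH in
/-- Only the identity fixes three cosets of `N(T)`. -/
theorem eq_one_of_fixes_three {g : G} {x₁ x₂ x₃ : X} (h12 : x₁ ≠ x₂) (h13 : x₁ ≠ x₃) (h23 : x₂ ≠ x₃)
    (g1 : g • x₁ = x₁) (g2 : g • x₂ = x₂) (g3 : g • x₃ = x₃) : g = 1 := by
  obtain ⟨u, huH, hu⟩ := StrongEmb.exists_involution_not_mem (isStronglyEmbedded T hnc hC hnn)
  haveI : Nontrivial (T : Subgroup G) :=
    Finite.one_lt_card_iff_nontrivial.mp (one_lt_card T hnc)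
  obtain ⟨⟨t, htT⟩, ht1⟩ := exists_ne (1 : (T : Subgroup G))
  have ht1' : t ≠ 1 := fun h => ht1 (Subtype.ext h)
  obtain ⟨a, a1, a2, a3⟩ := exists_std T hnc hC hnn hu huH htT ht1' h12 h13 h23
  set k := a⁻¹ * g * a with hk
  have hfix : ∀ {p q : X}, a • p = q → g • q = q → k • p = p := by
    intro p q h h'
    rw [hk, mul_smul, mul_smul, h, h', ← h, inv_smul_smul]
  have k1 := hfix a1 g1
  have k2 := hfix a2 g2
  have k3 := hfix a3 g3
  set H := Subgroup.normalizer ((T : Subgroup G) : Set G) with hHdef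
  have hkH : k ∈ H := by
    rw [MulAction.Quotient.smul_coe, smul_eq_mul, mul_one, QuotientGroup.eq, mul_one,
      inv_mem_iff] at k1
    exact k1
  have hkD : k ∈ twoPoint T u := by
    refine (mem_D_iff T).mpr ⟨hkH, ?_⟩
    have h := k2
    rw [MulAction.Quotient.smul_coe, smul_eq_mul, eq_comm, QuotientGroup.eq, ← mul_assoc] at h
    exact h
  have hconj : k * t * k⁻¹ ∈ (T : Subgroup G) := (Subgroup.mem_normalizer_iff.mp hkH t).mp htT
  have h4 : (k * t * k⁻¹) • (u : G ⧸ H) = t • (u : G ⧸ H) := by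
    have h5 : k⁻¹ • (u : G ⧸ H) = (u : G ⧸ H) := by rw [inv_smul_eq_iff, k2]
    rw [mul_smul, h5, mul_smul, k3]
  have h6 := eq_of_smul_eq T hnc hC hnn hconj htT huH h4
  have h7 := eq_one_of_mem_D_of_mem T hnc hC hnn hu huH hkD
    (mem_of_commute T hnc hC htT ht1' (mul_inv_eq_iff_eq_mul.mp h6))
  rw [hk] at h7
  calc g = a * (a⁻¹ * g * a) * a⁻¹ := by group
    _ = 1 := by rw [h7]; group

end Cfsg.Agent.Involution.ElemCentralizer
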