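import Cfsg.Agent.Lib.Involution.StrongEmb
import Mathlib.GroupTheory.Sylow
import Mathlib.GroupTheory.Complement
import Mathlib.GroupTheory.SpecificGroups.Cyclic

/-!
# All involution centralizers elementary abelian 2-groups

`G` has a noncyclic non-normal Sylow 2-subgroup `T` and every involution centralizer is an
elementary abelian 2-group: `N(T)` is strongly embedded, and the two-point stabilizer `D` is an
abelian complement of `T` inverted by the involutions exchanging the two points, with exactly two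
fixed points.
-/

namespace Cfsg.Agent.Involution.ElemCentralizer

open Cfsg.Agent.Involution.StrongEmb (orderOf_conj' mul_self_of_orderOf inv_eq_of_orderOf)

variable {G : Type*} [Group G] [Finite G]

/-- The standing hypothesis. -/
def Hyp (G : Type*) [Group G] : Prop :=
  ∀ t : G, orderOf t = 2 → IsMulCommutative (Subgroup.centralizer ({t} : Set G)) ∧
    ∀ c ∈ Subgroup.centralizer ({t} : Set G), c ^ 2 = 1

theorem commute_of_mem_centralizer (hC : Hyp G) {t a b : G} (ht : orderOf t = 2)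
    (ha : Commute a t) (hb : Commute b t) : Commute a b := by
  have h := (hC t ht).1
  exact congrArg Subtype.val (h.is_comm.comm
    ⟨a, Isolated.mem_centralizer_iff_commute.mpr ha⟩
    ⟨b, Isolated.mem_centralizer_iff_commute.mpr hb⟩)

theorem sq_of_commute (hC : Hyp G) {t a : G} (ht : orderOf t = 2) (ha : Commute a t) :
    a * a = 1 := by
  rw [← pow_two]
  exact (hC t ht).2 a (Isolated.mem_centralizer_iff_commute.mpr ha)

/-- The stabilizer of `H = N(T)` and `uH`. -/
abbrev twoPoint (T : Sylow 2 G) (u : G) : Subgroup G :=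
  Subgroup.normalizer ((T : Subgroup G) : Set G) ⊓
    (Subgroup.normalizer ((T : Subgroup G) : Set G)).map (MulAut.conj u).toMonoidHom

variable (T : Sylow 2 G) (hnc : ¬ IsCyclic (T : Subgroup G)) (hC : Hyp G)
include hnc hC

omit hC in
theorem one_lt_card : 1 < Nat.card (T : Subgroup G) := by
  by_contra h
  haveI : Finite (T : Subgroup G) := inferInstance
  haveI : Subsingleton (T : Subgroup G) := Finite.card_le_one_iff_subsingleton.mp (not_lt.mp h)
  exact hnc isCyclic_of_subsingleton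

theorem sylow_abelian_sq : (∀ a ∈ (T : Subgroup G), ∀ b ∈ (T : Subgroup G), Commute a b) ∧
    ∀ a ∈ (T : Subgroup G), a * a = 1 := by
  haveI : Nontrivial (T : Subgroup G) :=
    Finite.one_lt_card_iff_nontrivial.mp (one_lt_card T hnc)
  haveI : Fact (Nat.Prime 2) := ⟨Nat.prime_two⟩
  haveI := T.2.center_nontrivial
  obtain ⟨k, hk⟩ := (IsPGroup.iff_card (p := 2)).mp (T.2.to_subgroup (Subgroup.center (T : Subgroup G)))
  have hk1 : k ≠ 0 := by
    rintro rfl
    rw [pow_zero] at hk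
    have := Finite.one_lt_card (α := Subgroup.center (T : Subgroup G))
    omega
  obtain ⟨t, ht⟩ := exists_prime_orderOf_dvd_card' (G := Subgroup.center (T : Subgroup G)) 2
    (by rw [hk]; exact dvd_pow_self 2 hk1)
  have ht2 : orderOf ((t : (T : Subgroup G)) : G) = 2 := by
    rw [Subgroup.orderOf_coe, Subgroup.orderOf_coe, ht]
  have hc : ∀ a ∈ (T : Subgroup G), Commute a ((t : (T : Subgroup G)) : G) := fun a ha =>
    congrArg Subtype.val (Subgroup.mem_center_iff.mp t.2 ⟨a, ha⟩)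
  exact ⟨fun a ha b hb => commute_of_mem_centralizer hC ht2 (hc a ha) (hc b hb),
    fun a ha => sq_of_commute hC ht2 (hc a ha)⟩

theorem orderOf_of_mem {x : G} (hx : x ∈ (T : Subgroup G)) (hx1 : x ≠ 1) : orderOf x = 2 :=
  orderOf_eq_prime_iff.mpr ⟨by rw [pow_two]; exact (sylow_abelian_sq T hnc hC).2 x hx, hx1⟩

/-- `C(x) = T` for each involution `x` of `T`. -/
theorem mem_of_commute {x g : G} (hx : x ∈ (T : Subgroup G)) (hx1 : x ≠ 1) (hg : Commute g x) :
    g ∈ (T : Subgroup G) := by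
  have hx2 := orderOf_of_mem T hnc hC hx hx1
  have hle : (T : Subgroup G) ≤ Subgroup.centralizer ({x} : Set G) := fun a ha =>
    Isolated.mem_centralizer_iff_commute.mpr ((sylow_abelian_sq T hnc hC).1 a ha x hx)
  have hp : IsPGroup 2 (Subgroup.centralizer ({x} : Set G)) := fun c =>
    ⟨1, Subtype.ext (by simpa using (hC x hx2).2 c c.2)⟩
  exact (T.3 hp hle).le (Isolated.mem_centralizer_iff_commute.mpr hg)

theorem mem_of_involution {x : G} (hx : orderOf x = 2)
    (hxN : x ∈ Subgroup.normalizer ((T : Subgroup G) : Set G)) : x ∈ (T : Subgroup G) := by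
  haveI : Fact (Nat.Prime 2) := ⟨Nat.prime_two⟩
  have hp : IsPGroup 2 (Subgroup.zpowers x) :=
    IsPGroup.of_card (n := 1) (by rw [Nat.card_zpowers, hx, pow_one])
  have hsup := T.2.to_sup_of_normal_left' hp (by rwa [Subgroup.zpowers_le])
  exact (T.3 hsup le_sup_left).le (Subgroup.mem_sup_right (Subgroup.mem_zpowers x))

/-- `T` is a TI set. -/
theorem mem_normalizer_of_conj_mem {x g : G} (hx : x ∈ (T : Subgroup G)) (hx1 : x ≠ 1)
    (hg : g * x * g⁻¹ ∈ (T : Subgroup G)) : g ∈ Subgroup.normalizer ((T : Subgroup G) : Set G) := by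
  have hgx1 : g * x * g⁻¹ ≠ 1 := fun h => hx1 (conj_eq_one_iff.mp h)
  rw [Subgroup.mem_normalizer_iff]
  intro a
  constructor
  · intro ha
    refine mem_of_commute T hnc hC hg hgx1 ?_
    have h1 : a * x = x * a := (sylow_abelian_sq T hnc hC).1 a ha x hx
    calc g * a * g⁻¹ * (g * x * g⁻¹) = g * (a * x) * g⁻¹ := by group
      _ = g * (x * a) * g⁻¹ := by rw [h1]
      _ = g * x * g⁻¹ * (g * a * g⁻¹) := by group
  · intro ha
    refine mem_of_commute T hnc hC hx hx1 ?_
    have h1 : g * a * g⁻¹ * (g * x * g⁻¹) = g * x * g⁻¹ * (g * a * g⁻¹) :=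
      (sylow_abelian_sq T hnc hC).1 _ ha _ hg
    calc a * x = g⁻¹ * (g * a * g⁻¹ * (g * x * g⁻¹)) * g := by group
      _ = g⁻¹ * (g * x * g⁻¹ * (g * a * g⁻¹)) * g := by rw [h1]
      _ = x * a := by group

variable (hnn : ¬ (T : Subgroup G).Normal)
include hnn

theorem isStronglyEmbedded :
    Cfsg.IsStronglyEmbedded (Subgroup.normalizer ((T : Subgroup G) : Set G)) := by
  haveI : Fact (Nat.Prime 2) := ⟨Nat.prime_two⟩
  refine ⟨fun h => hnn (Subgroup.normalizer_eq_top_iff.mp h), ?_, fun g hg => ?_⟩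
  · obtain ⟨k, hk⟩ := (IsPGroup.iff_card (p := 2)).mp T.2
    have h1 := one_lt_card T hnc
    refine even_iff_two_dvd.mpr (dvd_trans ?_ (Subgroup.card_dvd_of_le Subgroup.le_normalizer))
    rw [hk] at h1 ⊢
    exact dvd_pow_self 2 (fun h => by simp [h] at h1)
  · by_contra hcon
    rw [Nat.not_odd_iff_even] at hcon
    obtain ⟨x, hx⟩ := exists_prime_orderOf_dvd_card'
      (G := ↥(Subgroup.normalizer ((T : Subgroup G) : Set G) ⊓
        (Subgroup.normalizer ((T : Subgroup G) : Set G)).map (MulAut.conj g).toMonoidHom)) 2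
      (even_iff_two_dvd.mp hcon)
    obtain ⟨_, hxN, y, hy, rfl⟩ := x
    have hxo : orderOf (g * y * g⁻¹) = 2 := by
      rw [← Subgroup.orderOf_coe] at hx
      exact hx
    have hy2 : orderOf y = 2 := by rwa [orderOf_conj'] at hxo
    have hyT := mem_of_involution T hnc hC hy2 hy
    exact hg (mem_normalizer_of_conj_mem T hnc hC hyT
      (fun h => by simp [h] at hy2) (mem_of_involution T hnc hC hxo hxN))

variable {u : G} (hu : orderOf u = 2) (huH : u ∉ Subgroup.normalizer ((T : Subgroup G) : Set G))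
include hu huH

omit hnn hu huH hnc hC in
theorem mem_D_iff {d : G} : d ∈ (twoPoint T u) ↔ d ∈ Subgroup.normalizer ((T : Subgroup G) : Set G) ∧
    u⁻¹ * d * u ∈ Subgroup.normalizer ((T : Subgroup G) : Set G) := by
  rw [Subgroup.mem_inf]
  refine and_congr_right fun _ => ⟨?_, fun h => ⟨_, h, ?_⟩⟩
  · rintro ⟨y, hy, rfl⟩
    simpa [mul_assoc] using hy
  · show u * (u⁻¹ * d * u) * u⁻¹ = d
    group

theorem eq_one_of_mem_D_of_mem {d : G} (hd : d ∈ (twoPoint T u)) (hdT : d ∈ (T : Subgroup G)) : d = 1 := by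
  by_contra h
  refine huH (inv_mem_iff.mp (mem_normalizer_of_conj_mem T hnc hC hdT h ?_))
  rw [inv_inv]
  refine mem_of_involution T hnc hC ?_ ((mem_D_iff T).mp hd).2
  have := orderOf_conj' u⁻¹ d
  rw [inv_inv] at this
  rw [this, orderOf_of_mem T hnc hC hdT h]

theorem card_D_and_inverts : Nat.card (twoPoint T u) = Nat.card (T : Subgroup G) - 1 ∧
    ∀ d ∈ (twoPoint T u), u * d * u⁻¹ = d⁻¹ := by
  set H := Subgroup.normalizer ((T : Subgroup G) : Set G) with hH'
  have hH := isStronglyEmbedded T hnc hC hnn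
  haveI : Nontrivial (T : Subgroup G) :=
    Finite.one_lt_card_iff_nontrivial.mp (one_lt_card T hnc)
  obtain ⟨⟨t, htT⟩, ht1⟩ := exists_ne (1 : (T : Subgroup G))
  have ht1' : t ≠ 1 := fun h => ht1 (Subtype.ext h)
  have ht2 := orderOf_of_mem T hnc hC htT ht1'
  have htH : t ∈ H := Subgroup.le_normalizer htT
  -- number of involutions of `H`
  have hI : Nat.card {x : G // orderOf x = 2 ∧ x ∈ H} = Nat.card (T : Subgroup G) - 1 := by
    have h1 : Nat.card ↥(((T : Subgroup G) : Set G) \ {1}) = Nat.card (T : Subgroup G) - 1 := by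
      rw [Nat.card_coe_set_eq, Set.ncard_sdiff_singleton_of_mem (by simp),
        ← Nat.card_coe_set_eq]
      rfl
    rw [← h1]
    refine Nat.card_congr (Equiv.subtypeEquivRight fun x => ?_)
    constructor
    · rintro ⟨hx2, hxH⟩
      exact ⟨mem_of_involution T hnc hC hx2 hxH, fun h => by
        rw [Set.mem_singleton_iff] at h; simp [h] at hx2⟩
    · rintro ⟨hxT, hx1⟩
      exact ⟨orderOf_of_mem T hnc hC hxT (fun h => hx1 (Set.mem_singleton_iff.mpr h)),
        Subgroup.le_normalizer hxT⟩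
  have hD : Nat.card {x : G // orderOf x = 2 ∧ x ∈ H} = Nat.card (twoPoint T u) := by
    refine (Nat.card_eq_of_bijective (fun d : (twoPoint T u) =>
      (⟨d.1 * t * d.1⁻¹, by rw [orderOf_conj', ht2],
        H.mul_mem (H.mul_mem ((mem_D_iff T).mp d.2).1 htH)
          (H.inv_mem ((mem_D_iff T).mp d.2).1)⟩ :
        {x : G // orderOf x = 2 ∧ x ∈ H})) ⟨?_, ?_⟩).symm
    · intro d e h
      have h' : d.1 * t * d.1⁻¹ = e.1 * t * e.1⁻¹ := congrArg Subtype.val h
      have hc : Commute (e.1⁻¹ * d.1) t := by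
        show e.1⁻¹ * d.1 * t = t * (e.1⁻¹ * d.1)
        calc e.1⁻¹ * d.1 * t = e.1⁻¹ * (d.1 * t * d.1⁻¹) * d.1 := by group
          _ = t * (e.1⁻¹ * d.1) := by rw [h']; group
      have h1 := eq_one_of_mem_D_of_mem T hnc hC hnn hu huH
        ((twoPoint T u).mul_mem ((twoPoint T u).inv_mem e.2) d.2) (mem_of_commute T hnc hC htT ht1' hc)
      exact Subtype.ext (inv_mul_eq_one.mp h1).symm
    · rintro ⟨x, hx2, hxH⟩
      obtain ⟨d, hd, he⟩ := StrongEmb.exists_mem_inter_conj hH huH ht2 htH hx2 hxH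
      exact ⟨⟨d, hd⟩, Subtype.ext he⟩
  refine ⟨hD.symm.trans hI, ?_⟩
  -- `i ↦ u i` maps the involutions exchanging `H` and `uH` onto `D`
  have hne : ((1 : G) : G ⧸ H) ≠ (u : G ⧸ H) := fun h => huH (by
    simpa using QuotientGroup.eq.mp h)
  have hcard := StrongEmb.card_swap hH _ _ hne
  have hmem : ∀ i : G, orderOf i = 2 → i • ((1 : G) : G ⧸ H) = (u : G ⧸ H) → u * i ∈ (twoPoint T u) := by
    intro i hi2 hi
    rw [StrongEmb.smul_one_eq_iff, inv_eq_of_orderOf hu] at hi
    refine (mem_D_iff T).mpr ⟨hi, ?_⟩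
    have h2 := H.inv_mem hi
    rw [mul_inv_rev, inv_eq_of_orderOf hi2, inv_eq_of_orderOf hu] at h2
    rw [← mul_assoc u⁻¹, inv_mul_cancel, one_mul]
    exact h2
  have hsurj : ∀ d ∈ (twoPoint T u), ∃ i : G, orderOf i = 2 ∧ u * i = d := by
    let f : {i : G // orderOf i = 2 ∧ i • ((1 : G) : G ⧸ H) = (u : G ⧸ H)} → (twoPoint T u) :=
      fun i => ⟨u * i, hmem i i.2.1 i.2.2⟩
    have hinj : Function.Injective f := fun i j h =>
      Subtype.ext (mul_left_cancel (congrArg Subtype.val h))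
    have hb := hinj.bijective_of_nat_card_le (by rw [hcard, hD])
    intro d hd
    obtain ⟨i, hi⟩ := hb.2 ⟨d, hd⟩
    exact ⟨i, i.2.1, congrArg Subtype.val hi⟩
  intro d hd
  obtain ⟨i, hi, rfl⟩ := hsurj d hd
  rw [mul_inv_rev, inv_eq_of_orderOf hu, inv_eq_of_orderOf hi, ← mul_assoc u u,
    mul_self_of_orderOf hu, one_mul]

theorem exists_D_mul_mem {h : G} (hh : h ∈ Subgroup.normalizer ((T : Subgroup G) : Set G)) :
    ∃ d ∈ (twoPoint T u), d⁻¹ * h ∈ (T : Subgroup G) := by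
  set H := Subgroup.normalizer ((T : Subgroup G) : Set G)
  have hH := isStronglyEmbedded T hnc hC hnn
  haveI : Nontrivial (T : Subgroup G) :=
    Finite.one_lt_card_iff_nontrivial.mp (one_lt_card T hnc)
  obtain ⟨⟨t, htT⟩, ht1⟩ := exists_ne (1 : (T : Subgroup G))
  have ht1' : t ≠ 1 := fun h => ht1 (Subtype.ext h)
  have ht2 := orderOf_of_mem T hnc hC htT ht1'
  have htH : t ∈ H := Subgroup.le_normalizer htT
  obtain ⟨d, hd, he⟩ := StrongEmb.exists_mem_inter_conj hH huH ht2 htH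
    (t := h * t * h⁻¹) (by rw [orderOf_conj', ht2]) (H.mul_mem (H.mul_mem hh htH) (H.inv_mem hh))
  refine ⟨d, hd, mem_of_commute T hnc hC htT ht1' ?_⟩
  show d⁻¹ * h * t = t * (d⁻¹ * h)
  calc d⁻¹ * h * t = d⁻¹ * (h * t * h⁻¹) * h := by group
    _ = t * (d⁻¹ * h) := by rw [← he]; group

theorem card_normalizer_and_complement :
    Nat.card (Subgroup.normalizer ((T : Subgroup G) : Set G)) =
      Nat.card (T : Subgroup G) * (Nat.card (T : Subgroup G) - 1) ∧
    Subgroup.IsComplement' ((twoPoint T u).subgroupOf (Subgroup.normalizer ((T : Subgroup G) : Set G)))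
      ((T : Subgroup G).subgroupOf (Subgroup.normalizer ((T : Subgroup G) : Set G))) := by
  have hcompl : Subgroup.IsComplement'
      ((twoPoint T u).subgroupOf (Subgroup.normalizer ((T : Subgroup G) : Set G)))
      ((T : Subgroup G).subgroupOf (Subgroup.normalizer ((T : Subgroup G) : Set G))) := by
    refine Subgroup.isComplement'_of_disjoint_and_mul_eq_univ (disjoint_iff.mpr ?_) ?_
    · rw [eq_bot_iff]
      rintro x ⟨hx1, hx2⟩
      rw [Subgroup.mem_bot]
      exact Subtype.ext (eq_one_of_mem_D_of_mem T hnc hC hnn hu huH hx1 hx2)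
    · refine Set.eq_univ_of_forall fun h => ?_
      obtain ⟨d, hd, hdT⟩ := exists_D_mul_mem T hnc hC hnn hu huH h.2
      exact ⟨⟨d, ((mem_D_iff T).mp hd).1⟩, hd,
        ⟨d⁻¹ * h, Subgroup.le_normalizer hdT⟩, hdT, Subtype.ext (mul_inv_cancel_left _ _)⟩
  refine ⟨?_, hcompl⟩
  rw [← hcompl.card_mul_card, mul_comm (Nat.card (T : Subgroup G)),
    Nat.card_congr (Subgroup.subgroupOfEquivOfLe inf_le_left).toEquiv,
    Nat.card_congr (Subgroup.subgroupOfEquivOfLe Subgroup.le_normalizer).toEquiv,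
    (card_D_and_inverts T hnc hC hnn hu huH).1]

theorem exists_ne_one_D : ∃ d ∈ (twoPoint T u), d ≠ 1 ∧ d * d ≠ 1 := by
  haveI : Fact (Nat.Prime 2) := ⟨Nat.prime_two⟩
  obtain ⟨k, hk⟩ := (IsPGroup.iff_card (p := 2)).mp T.2
  have h1 := (card_D_and_inverts T hnc hC hnn hu huH).1
  have hk2 : 2 ≤ k := by
    by_contra h
    apply hnc
    rcases (show k = 0 ∨ k = 1 by omega) with rfl | rfl
    · have := one_lt_card T hnc
      rw [hk] at this; simp at this
    · exact isCyclic_of_prime_card (p := 2) (by rw [hk, pow_one])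
  have hodd : Odd (Nat.card (twoPoint T u)) := by
    rw [h1, hk]
    refine Nat.Even.sub_odd Nat.one_le_two_pow ?_ odd_one
    exact Nat.even_pow.mpr ⟨even_two, by omega⟩
  have hgt : 1 < Nat.card (twoPoint T u) := by
    rw [h1, hk]
    have : 2 ^ 2 ≤ 2 ^ k := Nat.pow_le_pow_right (by norm_num) hk2
    omega
  haveI := Finite.one_lt_card_iff_nontrivial.mp hgt
  obtain ⟨⟨d, hd⟩, hd1⟩ := exists_ne (1 : (twoPoint T u))
  refine ⟨d, hd, fun h => hd1 (Subtype.ext h), fun h => hd1 ?_⟩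
  have : Odd (orderOf (⟨d, hd⟩ : (twoPoint T u))) := hodd.of_dvd_nat (orderOf_dvd_natCard _)
  refine Isolated.eq_one_of_eq_inv this ?_
  exact eq_inv_of_mul_eq_one_left (Subtype.ext h)

/-- The centralizer of `D`: no involutions, meets `H` in `D`, inverted by `u`. -/
theorem centralizer_D :
    (∀ e ∈ Subgroup.centralizer ((twoPoint T u) : Set G), u * e * u⁻¹ = e⁻¹) ∧
    ∀ h ∈ Subgroup.centralizer ((twoPoint T u) : Set G),
      h ∈ Subgroup.normalizer ((T : Subgroup G) : Set G) → h ∈ (twoPoint T u) := by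
  haveI : Fact (Nat.Prime 2) := ⟨Nat.prime_two⟩
  obtain ⟨d₀, hd₀, hd₀1, hd₀2⟩ := exists_ne_one_D T hnc hC hnn hu huH
  set E := Subgroup.centralizer ((twoPoint T u) : Set G) with hE
  have hinv := (card_D_and_inverts T hnc hC hnn hu huH).2
  have hnoinv : ∀ x ∈ E, x * x = 1 → x = 1 := by
    intro x hx hxx
    by_contra hx1
    have hx2 : orderOf x = 2 := orderOf_eq_prime_iff.mpr ⟨by rwa [pow_two], hx1⟩
    exact hd₀2 (sq_of_commute hC hx2 (Subgroup.mem_centralizer_iff.mp hx d₀ hd₀))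
  have hodd : ∀ e ∈ E, Odd (orderOf e) := by
    intro e he
    rw [← Nat.not_even_iff_odd]
    rintro ⟨m, hm⟩
    have := orderOf_pos e
    have h1 := hnoinv (e ^ m) (pow_mem he m) (by rw [← pow_add, ← hm, pow_orderOf_eq_one])
    exact pow_ne_one_of_lt_orderOf (by omega) (by omega) h1
  have hnormE : ∀ e ∈ E, u * e * u⁻¹ ∈ E := by
    intro e he
    rw [hE, Subgroup.mem_centralizer_iff]
    intro d hd
    have h1 := Subgroup.mem_centralizer_iff.mp he d⁻¹ ((twoPoint T u).inv_mem hd)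
    have h2 : d = u * d⁻¹ * u⁻¹ := by
      have h0 := hinv d⁻¹ ((twoPoint T u).inv_mem hd)
      rw [inv_inv] at h0
      exact h0.symm
    calc d * (u * e * u⁻¹) = u * d⁻¹ * u⁻¹ * (u * e * u⁻¹) := by rw [← h2]
      _ = u * (d⁻¹ * e) * u⁻¹ := by group
      _ = u * (e * d⁻¹) * u⁻¹ := by rw [h1]
      _ = u * e * u⁻¹ * (u * d⁻¹ * u⁻¹) := by group
      _ = u * e * u⁻¹ * d := by rw [← h2]
  refine ⟨fun e he => ?_, fun h hh hhN => ?_⟩
  · -- fixed-point-free involutory automorphisms invert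
    let f : E → E := fun x => ⟨x.1⁻¹ * (u * x.1 * u⁻¹), mul_mem (inv_mem x.2) (hnormE x x.2)⟩
    have hinj : Function.Injective f := by
      intro x y hxy
      have h1 : x.1⁻¹ * (u * x.1 * u⁻¹) = y.1⁻¹ * (u * y.1 * u⁻¹) := congrArg Subtype.val hxy
      have hc : Commute (y.1 * x.1⁻¹) u := by
        show y.1 * x.1⁻¹ * u = u * (y.1 * x.1⁻¹)
        calc y.1 * x.1⁻¹ * u
            = y.1 * (x.1⁻¹ * (u * x.1 * u⁻¹)) * u * x.1⁻¹ := by group
          _ = u * (y.1 * x.1⁻¹) := by rw [h1]; group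
      have h2 := hnoinv _ (mul_mem y.2 (inv_mem x.2)) (sq_of_commute hC hu hc)
      exact Subtype.ext (mul_inv_eq_one.mp h2).symm
    obtain ⟨x, hx⟩ := (Finite.surjective_of_injective hinj) ⟨e, he⟩
    have hx' : x.1⁻¹ * (u * x.1 * u⁻¹) = e := congrArg Subtype.val hx
    rw [← hx']
    calc u * (x.1⁻¹ * (u * x.1 * u⁻¹)) * u⁻¹ = (u * x.1⁻¹ * u⁻¹) * ((u * u) * x.1 * (u * u)⁻¹) := by
          group
      _ = (x.1⁻¹ * (u * x.1 * u⁻¹))⁻¹ := by rw [mul_self_of_orderOf hu]; group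
  · obtain ⟨d, hd, hdT⟩ := exists_D_mul_mem T hnc hC hnn hu huH hhN
    have hdE : d ∈ E := by
      rw [hE, Subgroup.mem_centralizer_iff]
      intro d' hd'
      have h1 := hinv _ ((twoPoint T u).mul_mem hd' hd)
      have h2 : u * (d' * d) * u⁻¹ = (u * d' * u⁻¹) * (u * d * u⁻¹) := by group
      rw [h2, hinv _ hd', hinv _ hd, ← mul_inv_rev] at h1
      exact (inv_injective h1).symm
    have hxE : d⁻¹ * h ∈ E := mul_mem (inv_mem hdE) hh
    have := hnoinv _ hxE ((sylow_abelian_sq T hnc hC).2 _ hdT)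
    rwa [← inv_mul_eq_one.mp this]

theorem fixed_cosets {g : G}
    (hg : ∀ d ∈ (twoPoint T u), g⁻¹ * d * g ∈ Subgroup.normalizer ((T : Subgroup G) : Set G)) :
    g ∈ Subgroup.normalizer ((T : Subgroup G) : Set G) ∨
      u⁻¹ * g ∈ Subgroup.normalizer ((T : Subgroup G) : Set G) := by
  set H := Subgroup.normalizer ((T : Subgroup G) : Set G) with hHdef
  have hH := isStronglyEmbedded T hnc hC hnn
  obtain ⟨hcardD, hinv⟩ := card_D_and_inverts T hnc hC hnn hu huH
  obtain ⟨hinvE, hEH⟩ := centralizer_D T hnc hC hnn hu huH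
  obtain ⟨d₀, hd₀, hd₀1, hd₀2⟩ := exists_ne_one_D T hnc hC hnn hu huH
  -- a coset fixed by `D` is `H` or `e u H` with `e ∈ C(D)`
  have key : ∀ c : G, c ∉ H → (∀ d ∈ (twoPoint T u), c⁻¹ * d * c ∈ H) →
      ∃ e ∈ Subgroup.centralizer ((twoPoint T u) : Set G), c⁻¹ * (e * u) ∈ H := by
    intro c hc hcD
    obtain ⟨x, hx, hx2⟩ := StrongEmb.exists_involution hH
    have hne : ((1 : G) : G ⧸ H) ≠ (c : G ⧸ H) := fun h => hc (by
      simpa using QuotientGroup.eq.mp h)
    have hcard := StrongEmb.card_swap hH _ _ hne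
    haveI : Nonempty {t : G // orderOf t = 2 ∧ t ∈ H} := ⟨⟨x, hx2, hx⟩⟩
    have hpos : 0 < Nat.card {i : G // orderOf i = 2 ∧ i • ((1 : G) : G ⧸ H) = (c : G ⧸ H)} := by
      rw [hcard]; exact Nat.card_pos
    obtain ⟨⟨v, hv2, hv⟩⟩ := (Nat.card_pos_iff.mp hpos).1
    rw [StrongEmb.smul_one_eq_iff] at hv
    have hvH : v ∉ H := fun h => hc (inv_mem_iff.mp (by
      have := H.mul_mem hv (H.inv_mem h); rwa [mul_inv_cancel_right] at this))
    obtain ⟨hcardD', hinv'⟩ := card_D_and_inverts T hnc hC hnn hv2 hvH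
    have hle : (twoPoint T u) ≤ H ⊓ H.map (MulAut.conj v).toMonoidHom := by
      intro d hd
      refine (mem_D_iff T).mpr ⟨((mem_D_iff T).mp hd).1, ?_⟩
      have : v⁻¹ * d * v = (c⁻¹ * v)⁻¹ * (c⁻¹ * d * c) * (c⁻¹ * v) := by group
      rw [this]
      exact H.mul_mem (H.mul_mem (H.inv_mem hv) (hcD d hd)) hv
    have heq := Subgroup.eq_of_le_of_card_ge hle (by rw [hcardD', hcardD])
    refine ⟨v * u, ?_, ?_⟩
    · rw [Subgroup.mem_centralizer_iff]
      intro d hd
      have h0 : v * (u * d * u⁻¹) * v⁻¹ = d := by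
        rw [hinv d hd, hinv' d⁻¹ (hle ((twoPoint T u).inv_mem hd)), inv_inv]
      calc d * (v * u) = v * (u * d * u⁻¹) * v⁻¹ * (v * u) := by rw [h0]
        _ = v * u * d := by group
    · rwa [mul_assoc v u u, mul_self_of_orderOf hu, mul_one]
  -- `C(D)` fixes `H`
  have hE : ∀ e ∈ Subgroup.centralizer ((twoPoint T u) : Set G), e ∈ H := by
    intro e he
    by_contra heH
    obtain ⟨e₂, he₂, h⟩ := key e heH (fun d hd => by
      rw [mul_assoc, Subgroup.mem_centralizer_iff.mp he d hd, inv_mul_cancel_left]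
      exact ((mem_D_iff T).mp hd).1)
    set y := e⁻¹ * (e₂ * u) with hy
    have hε : e⁻¹ * e₂ ∈ Subgroup.centralizer ((twoPoint T u) : Set G) := mul_mem (inv_mem he) he₂
    have hy2 : orderOf y = 2 := by
      rw [orderOf_eq_prime_iff, pow_two]
      have h1 := hinvE _ hε
      rw [inv_eq_of_orderOf hu] at h1
      refine ⟨?_, fun h0 => ?_⟩
      · calc y * y = e⁻¹ * e₂ * (u * (e⁻¹ * e₂) * u) := by rw [hy]; group
          _ = 1 := by rw [h1, mul_inv_cancel]
      · have h2 : u = (e⁻¹ * e₂)⁻¹ := eq_inv_of_mul_eq_one_right (by rw [← h0, hy]; group)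
        have h3 : u ∈ Subgroup.centralizer ((twoPoint T u) : Set G) :=
          (congrArg (· ∈ Subgroup.centralizer ((twoPoint T u) : Set G)) h2).mpr (inv_mem hε)
        have h4 := Subgroup.mem_centralizer_iff.mp h3 d₀ hd₀
        have h5 := hinv d₀ hd₀
        rw [← h4, mul_inv_cancel_right] at h5
        exact hd₀2 (mul_eq_one_iff_eq_inv.mpr h5)
    have hyT := mem_of_involution T hnc hC hy2 h
    have hdN := ((mem_D_iff T).mp hd₀).1
    have hcom : y * d₀ * y⁻¹ * d₀⁻¹ ∈ (T : Subgroup G) := by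
      have : y * d₀ * y⁻¹ * d₀⁻¹ = y * (d₀ * y⁻¹ * d₀⁻¹) := by group
      rw [this]
      exact mul_mem hyT ((Subgroup.mem_normalizer_iff.mp hdN _).mp (inv_mem hyT))
    have hyd : y * d₀ * y⁻¹ = d₀⁻¹ := by
      calc y * d₀ * y⁻¹ = (e⁻¹ * e₂) * (u * d₀ * u⁻¹) * (e⁻¹ * e₂)⁻¹ := by rw [hy]; group
        _ = d₀⁻¹ := by
          rw [hinv d₀ hd₀, ← Subgroup.mem_centralizer_iff.mp hε d₀⁻¹ ((twoPoint T u).inv_mem hd₀),
            mul_inv_cancel_right]
    rw [hyd, ← mul_inv_rev] at hcom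
    exact hd₀2 (inv_eq_one.mp (eq_one_of_mem_D_of_mem T hnc hC hnn hu huH
      ((twoPoint T u).inv_mem ((twoPoint T u).mul_mem hd₀ hd₀)) hcom))
  by_cases hgH : g ∈ H
  · exact Or.inl hgH
  · right
    obtain ⟨e, he, h⟩ := key g hgH hg
    have h1 := hinvE e he
    have h2 : u⁻¹ * g = (u⁻¹ * e * u) * (g⁻¹ * (e * u))⁻¹ := by group
    have h3 : u⁻¹ * e * u = e⁻¹ := by
      rw [← h1, inv_eq_of_orderOf hu]
    rw [h2, h3]
    exact H.mul_mem (H.inv_mem (hE e he)) (H.inv_mem h)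

end Cfsg.Agent.Involution.ElemCentralizer
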